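import Mathlib
import Cfsg.Agent.ChevalleyStructure.Ree.Data
import Cfsg.Agent.H905.Sp4Final
import Cfsg.Agent.H708.ReeSix_m3
import Cfsg.Agent.FastGrp
import Cfsg.Agent.Prune
set_option linter.all false

section
prune_inst 0x7fffb9f8fbbcc3ffdfff7e7ff6d8effc3a939fffe6dff943ffe061ef8bdf138209c56b8d09e010fe0ee2e01410b87843fb7eeeffea6fdc7ffffdfff45ffbee4fe5f7bd0811968c340f3c2ff603f0778e7f3fffffffffffffffffffffffffffbeffbfffffffff

-- part: H141/ReeK/Poly
section
set_option linter.all false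

/-!
# The last row and the first column of the elements of `U` in the 7-dimensional module of the Ree groups (helper141)

`K` of order `3^(2m+1)`, `e = 3^m`, `T = t^e`, `U = u^e`, `V = v^e`.
-/

set_option autoImplicit false

namespace Cfsg.Agent.H141.ReeK

variable {K : Type*} [Field K]

/-- last row of `U(t,u,v)` -/
def frow (e : ℕ) (t u v : K) : Fin 7 → K :=
  ![-(v ^ e) ^ 2 - u * u ^ e + t ^ e * v - t ^ e * u ^ e * v ^ e - t * (t ^ e) ^ 3 * u ^ e + t ^ 2 * (t ^ e) ^ 4,
    -v - u ^ e * v ^ e - t ^ e * (u ^ e) ^ 2 - t ^ 2 * (t ^ e) ^ 3,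
    -u - t ^ e * v ^ e - t * (t ^ e) ^ 3,
    -v ^ e + t ^ e * u ^ e,
    -u ^ e,
    t ^ e,
    1]

/-- first column of `U(t,u,v)` -/
def fcol (e : ℕ) (t u v : K) : Fin 7 → K :=
  ![1,
    -t ^ e,
    u ^ e + t * t ^ e,
    -v ^ e + t ^ e * u ^ e,
    u - t ^ e * v ^ e - (t ^ e) ^ 2 * u ^ e + t * (t ^ e) ^ 3,
    v - u ^ e * v ^ e + t * u - t * t ^ e * v ^ e - t * (t ^ e) ^ 2 * u ^ e - t ^ 2 * (t ^ e) ^ 3,
    -(v ^ e) ^ 2 - u * u ^ e + t ^ e * v - t ^ e * u ^ e * v ^ e - t * (t ^ e) ^ 3 * u ^ e + t ^ 2 * (t ^ e) ^ 4]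

/-- the kernel: the `(6,6)` entry of `U(t,u,v) n U(t',u',v') n⁻¹` -/
def ker (e : ℕ) (t u v t' u' v' : K) : K := ∑ k : Fin 7, frow e t u v k * fcol e t' u' v' k.rev

end Cfsg.Agent.H141.ReeK
end

-- part: H141/ReeK/Tri
section
prune_inst 0x60504033c002000800009071001c52820000020048c000a0a1010204c1cc4081420820b630101150a4381448390008111000400200000000000800011b0180000404008008030828009e000080000000000000000000000000000000000004000000000
set_option linter.all false
open scoped Cfsg.Agent.FastGrp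

-- part: H141/ReeK/Mat
section
/-!
# The last row and the first column of the elements of `U` in the 7-dimensional module of the Ree groups (helper141)

`B` : the 7-dimensional representation of `twistedG2 K e` (`ChevalleyStructure/Ree/Normal`).

* `B_row`, `B_col` : the last row and the first column of `B (wU e t u v)` are `frow`, `fcol`;
* `B_ker` : the `(6,6)` entry of `U(t,u,v) n U(t',u',v') n⁻¹`.
-/

set_option autoImplicit false
set_option linter.unusedSectionVars false

namespace Cfsg.Agent.H141.ReeK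

open Cfsg.Lie Cfsg.Agent.ChevalleyStructure.WordCheck Cfsg.Agent.ChevalleyStructure.WordEntry
open Cfsg.Agent.ChevalleyStructure.Ree Cfsg.Agent.ChevalleyStructure.Ree.Words
  Cfsg.Agent.ChevalleyStructure.Ree.Gens Cfsg.Agent.ChevalleyStructure.Ree.Blocks
  Cfsg.Agent.ChevalleyStructure.Ree.Bracket Cfsg.Agent.ChevalleyStructure.Ree.Checks
  Cfsg.Agent.ChevalleyStructure.Ree.Normal
open Cfsg.Agent.ChevalleyStructure (ReeFixed.val)

/-! ### symbolic entries -/

/-- `t` -/ def xt : PExpr := .var 0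
/-- `T` -/ def xT : PExpr := .var 1
/-- `u` -/ def xu : PExpr := .var 2
/-- `U` -/ def xU : PExpr := .var 3
/-- `v` -/ def xv : PExpr := .var 4
/-- `V` -/ def xV : PExpr := .var 5

/-- corner entry -/
def pCorner : PExpr :=
  .add (.add (.add (.add (.add (.neg (.pow xV 2)) (.neg (.mul xu xU))) (.mul xT xv))
    (.neg (.mul (.mul xT xU) xV))) (.neg (.mul (.mul xt (.pow xT 3)) xU))) (.mul (.pow xt 2) (.pow xT 4))

/-- last row -/
def pRow : Fin 7 → PExpr :=
  ![pCorner,
    .add (.add (.add (.neg xv) (.neg (.mul xU xV))) (.neg (.mul xT (.pow xU 2)))) (.neg (.mul (.pow xt 2) (.pow xT 3))),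
    .add (.add (.neg xu) (.neg (.mul xT xV))) (.neg (.mul xt (.pow xT 3))),
    .add (.neg xV) (.mul xT xU),
    .neg xU,
    xT,
    .const 1]

/-- first column -/
def pCol : Fin 7 → PExpr :=
  ![.const 1,
    .neg xT,
    .add xU (.mul xt xT),
    .add (.neg xV) (.mul xT xU),
    .add (.add (.add xu (.neg (.mul xT xV))) (.neg (.mul (.pow xT 2) xU))) (.mul xt (.pow xT 3)),
    .add (.add (.add (.add (.add xv (.neg (.mul xU xV))) (.mul xt xu)) (.neg (.mul (.mul xt xT) xV)))
      (.neg (.mul (.mul xt (.pow xT 2)) xU))) (.neg (.mul (.pow xt 2) (.pow xT 3))),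
    pCorner]

theorem check_row : ∀ k : Fin 7, entryIs chevG2 3 0 6 wW (Sc 6) (Sc k) (pRow k) = true := by decide +kernel

theorem check_col : ∀ k : Fin 7, entryIs chevG2 3 0 6 wW (Sc k) (Sc 0) (pCol k) = true := by decide +kernel

variable {K : Type*} [Field K] {θ : K →+* K} {e : ℕ}

theorem B_row (c : Ctx θ e) (t u v : K) (k : Fin 7) : B (wU e t u v) 6 k = frow e t u v k := by
  refine (W_entry c.h3 c.isTheta t u v (check_row k)).trans ?_
  (revert k; simp only [pRow, pCorner, PExpr.denote, Cfsg.Agent.ChevalleyStructure.ReeFixed.val, frow, xt, xT, xu, xU, xv, xV, c.theta_eq, _root_.Fin.forall_fin_succ, Fin.isValue, _root_.Matrix.cons_val_zero, _root_.List.getD_eq_getElem?_getD, _root_.List.length_cons, _root_.List.length_nil, _root_.zero_add, Nat.reduceAdd, _root_.Nat.lt_add_one, _root_.getElem?_pos, _root_.List.getElem_cons_succ, _root_.List.getElem_cons_zero, _root_.Option.getD_some, Nat.reduceLT, _root_.Nat.one_lt_ofNat, _root_.Nat.ofNat_pos, _root_.add_left_inj,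 _root_.Matrix.cons_val_succ, _root_.Matrix.cons_val_fin_one, _root_.Int.cast_one, _root_.implies_true, _root_.and_self, _root_.and_true]) <;> (repeat' with_reducible apply And.intro) <;> ring

theorem B_col (c : Ctx θ e) (t u v : K) (k : Fin 7) : B (wU e t u v) k 0 = fcol e t u v k := by
  refine (W_entry c.h3 c.isTheta t u v (check_col k)).trans ?_
  (revert k; simp only [pCol, pCorner, PExpr.denote, Cfsg.Agent.ChevalleyStructure.ReeFixed.val, fcol, xt, xT, xu, xU, xv, xV, c.theta_eq, _root_.Fin.forall_fin_succ, Fin.isValue, _root_.Matrix.cons_val_zero, _root_.Int.cast_one, _root_.Matrix.cons_val_succ, _root_.List.getD_eq_getElem?_getD, _root_.List.length_cons, _root_.List.length_nil, _root_.zero_add, Nat.reduceAdd, _root_.Nat.one_lt_ofNat, _root_.getElem?_pos, _root_.List.getElem_cons_succ, _root_.List.getElem_cons_zero, _root_.Option.getD_some, Nat.reduceLT, _root_.Nat.ofNat_pos, _root_.Nat.lt_add_one, _root_.add_left_inj, _root_.Matrix.cons_val_fin_one, _root_.forall_const,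 _root_.true_and]) <;> (repeat' with_reducible apply And.intro) <;> ring

end Cfsg.Agent.H141.ReeK
end

-- part: H141/ReeK/Form
section
/-!
# The alternating 3-form of the natural 7-dimensional module of the Ree groups (helper141)

* `Ad x` : the bracket with `x` on the 7-dimensional algebra (short root ideal of `g₂` in characteristic three);
  `JF` : the invariant symmetric form; `tri` : the 3-form `y^T JF (Ad x) z`.
* `tri_self`, `tri_z23`, `tri_ne` : alternating, nonzero;
* `Pres M` : `M` preserves the form and the product; `Pres.inv` : then `M` preserves `tri`; `Pres.map`;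
* **`pres`** : the elements of the Ree group preserve both.
-/

set_option autoImplicit false
set_option linter.unusedSectionVars false

namespace Cfsg.Agent.H141.ReeK

open Matrix
open Cfsg.Lie Cfsg.Agent.ChevalleyStructure.Ree Cfsg.Agent.ChevalleyStructure.Ree.Words
  Cfsg.Agent.ChevalleyStructure.Ree.Gens Cfsg.Agent.ChevalleyStructure.Ree.Bracket
  Cfsg.Agent.ChevalleyStructure.Ree.Normal Cfsg.Agent.ChevalleyStructure.Ree.Bruhat

section general

variable {L : Type*} [Field L]

/-- the bracket on the short root ideal -/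
def Ad (x : Fin 7 → L) : Matrix (Fin 7) (Fin 7) L := Am x (fun _ => 0)

/-- the invariant symmetric form -/
def JF (L : Type*) [Field L] : Matrix (Fin 7) (Fin 7) L :=
  !![0, 0, 0, 0, 0, 0, 1;
     0, 0, 0, 0, 0, 1, 0;
     0, 0, 0, 0, 1, 0, 0;
     0, 0, 0, -1, 0, 0, 0;
     0, 0, 1, 0, 0, 0, 0;
     0, 1, 0, 0, 0, 0, 0;
     1, 0, 0, 0, 0, 0, 0]

/-- `JF * Ad x` -/
def TT (x : Fin 7 → L) : Matrix (Fin 7) (Fin 7) L :=
  !![0, 0, 0, -x 6, -x 5, x 4, x 3;
     0, 0, -x 6, x 5, 0, -x 3, x 2;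
     0, x 6, 0, x 4, -x 3, 0, -x 1;
     x 6, -x 5, -x 4, 0, x 2, x 1, -x 0;
     x 5, 0, x 3, -x 2, 0, -x 0, 0;
     -x 4, x 3, 0, -x 1, x 0, 0, 0;
     -x 3, -x 2, x 1, x 0, 0, 0, 0]

theorem JF_mul_Ad (x : Fin 7 → L) : JF L * Ad x = TT x := by
  ext i j
  (revert i j; simp only [JF, Ad, Am, TT, Matrix.mul_apply, Fin.sum_univ_seven, _root_.Fin.forall_fin_succ, Fin.isValue, _root_.sub_zero, _root_.neg_zero, _root_.add_zero, _root_.Matrix.of_apply, _root_.Matrix.cons_val', _root_.Matrix.cons_val_fin_one, _root_.Matrix.cons_val_zero, _root_.Matrix.cons_val_one, _root_.Matrix.cons_val, _root_.mul_neg, _root_.MulZeroClass.mul_zero, _root_.Matrix.cons_val_succ, _root_.zero_add, _root_.forall_const, _root_.MulZeroClass.zero_mul, _root_.one_mul, _root_.and_self, _root_.neg_mul, _root_.neg_neg, _root_.implies_true])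

theorem TT_skew (x : Fin 7 → L) (i j : Fin 7) : TT x j i = -TT x i j := by
  (revert i j; simp only [TT, _root_.Fin.forall_fin_succ, Fin.isValue, _root_.Matrix.of_apply, _root_.Matrix.cons_val', _root_.Matrix.cons_val_fin_one, _root_.Matrix.cons_val_zero, _root_.Matrix.cons_val_succ, _root_.forall_const, _root_.neg_zero, _root_.neg_neg, _root_.and_self, _root_.implies_true])

theorem TT_self (x : Fin 7 → L) : x ᵥ* TT x = 0 := by
  funext j
  (revert j; simp only [TT, Matrix.vecMul, dotProduct, Fin.sum_univ_seven, _root_.Fin.forall_fin_succ, Fin.isValue, _root_.Matrix.of_apply, _root_.Matrix.cons_val', _root_.Matrix.cons_val_fin_one, _root_.Matrix.cons_val_zero, _root_.Matrix.cons_val_one, _root_.Matrix.cons_val, _root_.Pi.zero_apply, _root_.MulZeroClass.mul_zero, _root_.add_zero, _root_.zero_add, _root_.mul_neg, _root_.Matrix.cons_val_succ, _root_.forall_const]) <;> (repeat' with_reducible apply And.intro) <;> ring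

theorem Ad_add (x y : Fin 7 → L) : Ad (x + y) = Ad x + Ad y := by
  ext i j
  rw [Matrix.add_apply]
  (revert i j; simp only [Ad, Am, _root_.Fin.forall_fin_succ, Fin.isValue, _root_.Pi.add_apply, _root_.neg_add_rev, _root_.sub_zero, _root_.neg_zero, _root_.add_zero, _root_.Matrix.of_apply, _root_.Matrix.cons_val', _root_.Matrix.cons_val_fin_one, _root_.Matrix.cons_val_zero, _root_.Matrix.cons_val_succ, _root_.forall_const, _root_.and_self, _root_.and_true, _root_.true_and, _root_.left_eq_add, _root_.and_self_left]) <;> (repeat' with_reducible apply And.intro) <;> ring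

theorem Ad_smul (r : L) (x : Fin 7 → L) : Ad (r • x) = r • Ad x := by
  ext i j
  rw [Matrix.smul_apply]
  (revert i j; simp only [Ad, Am, _root_.Fin.forall_fin_succ, Fin.isValue, _root_.Pi.smul_apply, _root_.smul_eq_mul, _root_.sub_zero, _root_.neg_zero, _root_.add_zero, _root_.Matrix.of_apply, _root_.Matrix.cons_val', _root_.Matrix.cons_val_fin_one, _root_.Matrix.cons_val_zero, _root_.Matrix.cons_val_succ, _root_.forall_const, _root_.mul_neg, _root_.MulZeroClass.mul_zero, _root_.and_self, _root_.and_self_left, _root_.implies_true])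

/-- `Ad` as a linear map -/
def AdL (L : Type*) [Field L] : (Fin 7 → L) →ₗ[L] Matrix (Fin 7) (Fin 7) L where
  toFun := Ad
  map_add' := Ad_add
  map_smul' := Ad_smul

theorem Ad_single_sum (x : Fin 7 → L) : Ad x = ∑ a, x a • Ad (Pi.single a (1 : L)) := by
  have h := LinearMap.pi_apply_eq_sum_univ (AdL L) x
  change Ad x = ∑ a, x a • Ad (fun j => if a = j then (1 : L) else 0) at h
  rw [h]
  refine Finset.sum_congr rfl fun a _ => ?_
  congr 2
  funext j
  rw [Pi.single_apply]
  by_cases h : a = j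
  · rw [if_pos h, if_pos h.symm]
  · rw [if_neg h, if_neg (fun h' => h h'.symm)]

section unique

variable (X : Matrix (Fin 7) (Fin 7) L) (i : Fin 7)

theorem XA3 (j : Fin 7) : (X * Ad (![0, 0, 0, 1, 0, 0, 0] : Fin 7 → L) : Matrix (Fin 7) (Fin 7) L) i j =
    ![-X i 0, X i 1, X i 2, 0, -X i 4, -X i 5, X i 6] j := by
  rw [Matrix.mul_apply, Fin.sum_univ_seven]
  (revert j; simp only [Ad, Am, _root_.Fin.forall_fin_succ, Fin.isValue, _root_.Matrix.cons_val, _root_.neg_zero, _root_.Matrix.cons_val_one, _root_.Matrix.cons_val_zero, _root_.sub_zero, _root_.add_zero, _root_.Matrix.of_apply, _root_.Matrix.cons_val', _root_.Matrix.cons_val_fin_one, _root_.Nat.succ_eq_add_one, Nat.reduceAdd, _root_.mul_neg, _root_.mul_one, _root_.MulZeroClass.mul_zero, _root_.Matrix.cons_val_succ, _root_.zero_add, _root_.implies_true, _root_.and_self])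

theorem XA6 (j : Fin 7) : (X * Ad (![0, 0, 0, 0, 0, 0, 1] : Fin 7 → L) : Matrix (Fin 7) (Fin 7) L) i j =
    ![-X i 3, X i 4, -X i 5, -X i 6, 0, 0, 0] j := by
  rw [Matrix.mul_apply, Fin.sum_univ_seven]
  (revert j; simp only [Ad, Am, _root_.Fin.forall_fin_succ, Fin.isValue, _root_.Matrix.cons_val, _root_.neg_zero, _root_.Matrix.cons_val_one, _root_.Matrix.cons_val_zero, _root_.sub_self, _root_.add_zero, _root_.Matrix.of_apply, _root_.Matrix.cons_val', _root_.Matrix.cons_val_fin_one, _root_.Nat.succ_eq_add_one, Nat.reduceAdd, _root_.MulZeroClass.mul_zero, _root_.mul_neg, _root_.mul_one, _root_.zero_add, _root_.Matrix.cons_val_succ, _root_.implies_true, _root_.and_self])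

theorem XA5 (j : Fin 7) : (X * Ad (![0, 0, 0, 0, 0, 1, 0] : Fin 7 → L) : Matrix (Fin 7) (Fin 7) L) i j =
    ![X i 2, X i 3, 0, X i 5, -X i 6, 0, 0] j := by
  rw [Matrix.mul_apply, Fin.sum_univ_seven]
  (revert j; simp only [Ad, Am, _root_.Fin.forall_fin_succ, Fin.isValue, _root_.Matrix.cons_val, _root_.neg_zero, _root_.Matrix.cons_val_one, _root_.Matrix.cons_val_zero, _root_.sub_self, _root_.add_zero, _root_.Matrix.of_apply, _root_.Matrix.cons_val', _root_.Matrix.cons_val_fin_one, _root_.Nat.succ_eq_add_one, Nat.reduceAdd, _root_.MulZeroClass.mul_zero, _root_.mul_one, _root_.zero_add, _root_.Matrix.cons_val_succ, _root_.mul_neg, _root_.implies_true, _root_.and_self])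

theorem XA4 (j : Fin 7) : (X * Ad (![0, 0, 0, 0, 1, 0, 0] : Fin 7 → L) : Matrix (Fin 7) (Fin 7) L) i j =
    ![-X i 1, 0, X i 3, X i 4, 0, X i 6, 0] j := by
  rw [Matrix.mul_apply, Fin.sum_univ_seven]
  (revert j; simp only [Ad, Am, _root_.Fin.forall_fin_succ, Fin.isValue, _root_.Matrix.cons_val, _root_.neg_zero, _root_.Matrix.cons_val_one, _root_.Matrix.cons_val_zero, _root_.sub_self, _root_.add_zero, _root_.Matrix.of_apply, _root_.Matrix.cons_val', _root_.Matrix.cons_val_fin_one, _root_.Nat.succ_eq_add_one, Nat.reduceAdd, _root_.MulZeroClass.mul_zero, _root_.mul_neg, _root_.mul_one, _root_.zero_add, _root_.Matrix.cons_val_succ, _root_.implies_true, _root_.and_self])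

end unique

/-- the invariant forms are unique -/
theorem form_unique (h3 : (3 : L) = 0) {X : Matrix (Fin 7) (Fin 7) L} (hs : ∀ i j, X j i = X i j)
    (h : ∀ (x : Fin 7 → L) (i j : Fin 7), (X * Ad x : Matrix (Fin 7) (Fin 7) L) i j + (X * Ad x : Matrix (Fin 7) (Fin 7) L) j i = 0) : X = X 0 6 • JF L := by
  have e3 : ∀ i j, ![-X i 0, X i 1, X i 2, 0, -X i 4, -X i 5, X i 6] j +
      ![-X j 0, X j 1, X j 2, 0, -X j 4, -X j 5, X j 6] i = 0 := fun i j => by
    rw [← XA3, ← XA3]; exact h _ i j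
  have e6 : ∀ i j, ![-X i 3, X i 4, -X i 5, -X i 6, 0, 0, 0] j + ![-X j 3, X j 4, -X j 5, -X j 6, 0, 0, 0] i = 0 :=
    fun i j => by rw [← XA6, ← XA6]; exact h _ i j
  have e5 : ∀ i j, ![X i 2, X i 3, 0, X i 5, -X i 6, 0, 0] j + ![X j 2, X j 3, 0, X j 5, -X j 6, 0, 0] i = 0 :=
    fun i j => by rw [← XA5, ← XA5]; exact h _ i j
  have e4 : ∀ i j, ![-X i 1, 0, X i 3, X i 4, 0, X i 6, 0] j + ![-X j 1, 0, X j 3, X j 4, 0, X j 6, 0] i = 0 :=
    fun i j => by rw [← XA4, ← XA4]; exact h _ i j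
  have two : ∀ x : L, x + x = 0 → x = 0 := fun x hx => by linear_combination x * h3 - hx
  have two' : ∀ x : L, -x + -x = 0 → x = 0 := fun x hx => by linear_combination x * h3 + hx
  have x01 : X 0 1 = 0 := two' _ (e4 0 0)
  have x02 : X 0 2 = 0 := two _ (e5 0 0)
  have x14 : X 1 4 = 0 := two _ (e6 1 1)
  have x25 : X 2 5 = 0 := two' _ (e6 2 2)
  have x46 : X 4 6 = 0 := two' _ (e5 4 4)
  have x56 : X 5 6 = 0 := two _ (e4 5 5)
  have x33 : X 3 3 = -X 0 6 := by
    have h1 : -X 0 6 + -X 3 3 = 0 := e6 0 3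
    linear_combination -h1
  have x15 : X 1 5 = X 0 6 := by
    have h1 : X 1 5 + X 3 3 = 0 := e5 1 3
    linear_combination h1 - x33
  have x24 : X 2 4 = X 0 6 := by
    have h1 : -X 0 6 + X 4 2 = 0 := e5 0 4
    rw [hs 2 4] at h1
    linear_combination h1
  have x00 : X 0 0 = 0 := two' _ (e3 0 0)
  have x03 : X 0 3 = 0 := by
    have h1 : 0 + -X 3 0 = 0 := e3 0 3
    rw [hs 0 3] at h1
    linear_combination -h1
  have x04 : X 0 4 = 0 := by
    have h1 : -X 0 4 + -X 4 0 = 0 := e3 0 4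
    rw [hs 0 4] at h1
    exact two _ (by linear_combination -h1)
  have x05 : X 0 5 = 0 := by
    have h1 : -X 0 5 + -X 5 0 = 0 := e3 0 5
    rw [hs 0 5] at h1
    exact two _ (by linear_combination -h1)
  have x11 : X 1 1 = 0 := two _ (e3 1 1)
  have x12 : X 1 2 = 0 := by
    have h1 : X 1 2 + X 2 1 = 0 := e3 1 2
    rw [hs 1 2] at h1
    exact two _ h1
  have x13 : X 1 3 = 0 := by
    have h1 : 0 + X 3 1 = 0 := e3 1 3
    rw [hs 1 3] at h1
    linear_combination h1
  have x16 : X 1 6 = 0 := by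
    have h1 : X 1 6 + X 6 1 = 0 := e3 1 6
    rw [hs 1 6] at h1
    exact two _ h1
  have x22 : X 2 2 = 0 := two _ (e3 2 2)
  have x23 : X 2 3 = 0 := by
    have h1 : 0 + X 3 2 = 0 := e3 2 3
    rw [hs 2 3] at h1
    linear_combination h1
  have x26 : X 2 6 = 0 := by
    have h1 : X 2 6 + X 6 2 = 0 := e3 2 6
    rw [hs 2 6] at h1
    exact two _ h1
  have x34 : X 3 4 = 0 := by
    have h1 : -X 3 4 + 0 = 0 := e3 3 4
    linear_combination -h1
  have x35 : X 3 5 = 0 := by
    have h1 : -X 3 5 + 0 = 0 := e3 3 5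
    linear_combination -h1
  have x36 : X 3 6 = 0 := by
    have h1 : X 3 6 + 0 = 0 := e3 3 6
    linear_combination h1
  have x44 : X 4 4 = 0 := two' _ (e3 4 4)
  have x45 : X 4 5 = 0 := by
    have h1 : -X 4 5 + -X 5 4 = 0 := e3 4 5
    rw [hs 4 5] at h1
    exact two _ (by linear_combination -h1)
  have x55 : X 5 5 = 0 := two' _ (e3 5 5)
  have x66 : X 6 6 = 0 := two _ (e3 6 6)
  have key : ∀ i j, i ≤ j → X i j = X 0 6 * JF L i j := by
    intro i j hij
    fin_cases i <;> fin_cases j <;> first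
      | exact absurd hij (by decide)
      | simp [JF, x00, x01, x02, x03, x04, x05, x11, x12, x13, x14, x15, x16, x22, x23, x24, x25, x26, x33, x34, x35,
          x36, x44, x45, x46, x55, x56, x66]
  have hJ : ∀ i j, JF L j i = JF L i j := by
    intro i j
    fin_cases i <;> fin_cases j <;> rfl
  ext i j
  rw [Matrix.smul_apply, smul_eq_mul]
  rcases le_total i j with h1 | h1
  · exact key i j h1
  · rw [← hs, ← hJ]; exact key j i h1

end general

end Cfsg.Agent.H141.ReeK
end

-- part: H141/ReeK/Tri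
section
/-!
# The alternating 3-form of the natural 7-dimensional module of the Ree groups (helper141)

* `tri` : the 3-form `y^T JF (Ad x) z`; `tri_self`, `tri_z23`, `tri_ne` : alternating, nonzero;
* `Pres M` : `M` preserves the form and the product; `Pres.inv` : then `M` preserves `tri`; `Pres.map`;
* **`pres`** : the elements of the Ree group preserve both.
-/

set_option autoImplicit false
set_option linter.unusedSectionVars false

namespace Cfsg.Agent.H141.ReeK

open Matrix
open Cfsg.Lie Cfsg.Agent.ChevalleyStructure.Ree Cfsg.Agent.ChevalleyStructure.Ree.Words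
  Cfsg.Agent.ChevalleyStructure.Ree.Gens Cfsg.Agent.ChevalleyStructure.Ree.Bracket
  Cfsg.Agent.ChevalleyStructure.Ree.Normal Cfsg.Agent.ChevalleyStructure.Ree.Bruhat

section general

variable {L : Type*} [Field L]

/-- the 3-form -/
noncomputable def tri (L : Type*) [Field L] : (Fin 7 → L) →ₗ[L] (Fin 7 → L) →ₗ[L] (Fin 7 → L) →ₗ[L] L :=
  (Matrix.toLinearMap₂' L).toLinearMap ∘ₗ (LinearMap.mulLeft L (JF L)) ∘ₗ AdL L

theorem tri_apply (x y z : Fin 7 → L) : tri L x y z = y ⬝ᵥ ((JF L * Ad x) *ᵥ z) :=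
  Matrix.toLinearMap₂'_apply' _ _ _

theorem tri_self (x z : Fin 7 → L) : tri L x x z = 0 := by
  rw [tri_apply, JF_mul_Ad, Matrix.dotProduct_mulVec, TT_self, zero_dotProduct]

theorem tri_z23 (h2 : (2 : L) ≠ 0) (x y : Fin 7 → L) : tri L x y y = 0 := by
  rw [tri_apply, JF_mul_Ad]
  have h1 : (TT x)ᵀ = -TT x := by
    ext i j
    rw [Matrix.transpose_apply, Matrix.neg_apply, TT_skew]
  have h3 : y ⬝ᵥ (TT x *ᵥ y) = -(y ⬝ᵥ (TT x *ᵥ y)) := by
    conv_lhs => rw [Matrix.dotProduct_mulVec, ← Matrix.mulVec_transpose, h1, Matrix.neg_mulVec, neg_dotProduct,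
      dotProduct_comm]
  have h4 : (2 : L) * (y ⬝ᵥ (TT x *ᵥ y)) = 0 := by linear_combination h3
  exact (mul_eq_zero.1 h4).resolve_left h2

theorem tri_val : tri L (Pi.single 3 1) (Pi.single 0 1) (Pi.single 6 1) = 1 := by
  rw [tri_apply, JF_mul_Ad, Matrix.mulVec_single_one, single_one_dotProduct]
  change TT (Pi.single 3 1 : Fin 7 → L) 0 6 = 1
  simp [TT]

/-- `M` preserves the form and the product -/
structure Pres (M : Matrix (Fin 7) (Fin 7) L) : Prop where
  form : Mᵀ * JF L * M = JF L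
  col : ∀ a, Ad (fun i => M i a) * M = M * Ad (Pi.single a 1)

theorem ad_of_col {M : Matrix (Fin 7) (Fin 7) L} (h : ∀ a, Ad (fun i => M i a) * M = M * Ad (Pi.single a 1))
    (x : Fin 7 → L) : Ad (M *ᵥ x) * M = M * Ad x := by
  have h1 : Ad (M *ᵥ x) = ∑ a, x a • Ad (fun i => M i a) := by
    change AdL L (M *ᵥ x) = ∑ a, x a • AdL L (fun i => M i a)
    rw [Matrix.mulVec_eq_sum, map_sum]
    refine Finset.sum_congr rfl fun a _ => ?_
    rw [op_smul_eq_smul, map_smul]
    rfl
  rw [h1, Ad_single_sum x, Finset.sum_mul, Finset.mul_sum]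
  refine Finset.sum_congr rfl fun a _ => ?_
  rw [smul_mul_assoc, h, mul_smul_comm]

theorem Pres.inv {M : Matrix (Fin 7) (Fin 7) L} (h : Pres M) (x y z : Fin 7 → L) :
    tri L (M *ᵥ x) (M *ᵥ y) (M *ᵥ z) = tri L x y z := by
  rw [tri_apply, tri_apply, Matrix.mulVec_mulVec, mul_assoc, ad_of_col h.col, ← Matrix.vecMul_transpose,
    ← Matrix.dotProduct_mulVec, Matrix.mulVec_mulVec, ← mul_assoc, ← mul_assoc, h.form]

theorem Pres.quad {M : Matrix (Fin 7) (Fin 7) L} (h : Pres M) (x y : Fin 7 → L) :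
    (M *ᵥ x) ⬝ᵥ (JF L *ᵥ (M *ᵥ y)) = x ⬝ᵥ (JF L *ᵥ y) := by
  rw [Matrix.mulVec_mulVec, ← Matrix.vecMul_transpose, ← Matrix.dotProduct_mulVec, Matrix.mulVec_mulVec, ← mul_assoc,
    h.form]

theorem Pres.mul {M N : Matrix (Fin 7) (Fin 7) L} (h : Pres M) (h' : Pres N) : Pres (M * N) where
  form := by
    rw [Matrix.transpose_mul]
    calc Nᵀ * Mᵀ * JF L * (M * N) = Nᵀ * (Mᵀ * JF L * M) * N := by simp only [mul_assoc]
      _ = JF L := by rw [h.form, h'.form]
  col a := by
    have h1 : (fun i => (M * N) i a) = M *ᵥ fun i => N i a := by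
      funext i
      rw [Matrix.mul_apply]
      rfl
    rw [h1, ← mul_assoc, ad_of_col h.col, mul_assoc, h'.col, mul_assoc]

theorem Ad_map {L' : Type*} [Field L'] (σ : L →+* L') (x : Fin 7 → L) : (Ad x).map σ = Ad (fun i => σ (x i)) := by
  ext i j
  rw [Matrix.map_apply]
  (revert i j; simp only [Ad, Am, _root_.Fin.forall_fin_succ, Fin.isValue, _root_.sub_zero, _root_.neg_zero, _root_.add_zero, _root_.Matrix.of_apply, _root_.Matrix.cons_val', _root_.Matrix.cons_val_fin_one, _root_.Matrix.cons_val_zero, _root_.Matrix.cons_val_succ, _root_.forall_const, _root_.map_neg, _root_.map_zero, _root_.and_self, _root_.and_self_left, _root_.implies_true])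

theorem JF_map {L' : Type*} [Field L'] (σ : L →+* L') : (JF L).map σ = JF L' := by
  ext i j
  rw [Matrix.map_apply]
  (revert i j; simp only [JF, _root_.Fin.forall_fin_succ, _root_.Matrix.of_apply, _root_.Matrix.cons_val', _root_.Matrix.cons_val_fin_one, Fin.isValue, _root_.Matrix.cons_val_zero, _root_.Matrix.cons_val_succ, _root_.forall_const, _root_.map_zero, _root_.map_one, _root_.and_self, _root_.map_neg, _root_.implies_true])

theorem Pres.map {L' : Type*} [Field L'] (σ : L →+* L') {M : Matrix (Fin 7) (Fin 7) L} (h : Pres M) :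
    Pres (M.map σ) where
  form := by
    have h1 := congrArg (fun X : Matrix (Fin 7) (Fin 7) L => X.map σ) h.form
    simp only [Matrix.map_mul, JF_map] at h1
    exact h1
  col a := by
    have h1 := congrArg (fun X : Matrix (Fin 7) (Fin 7) L => X.map σ) (h.col a)
    simp only [Matrix.map_mul, Ad_map] at h1
    have h2 : (fun i => σ ((Pi.single a (1 : L) : Fin 7 → L) i)) = Pi.single a (1 : L') := by
      funext i
      rw [Pi.single_apply, Pi.single_apply]
      by_cases h : i = a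
      · rw [if_pos h, if_pos h, map_one]
      · rw [if_neg h, if_neg h, map_zero]
    rw [h2] at h1
    exact h1

end general

section ree

variable {K : Type*} [Field K] {θ : K →+* K} {e : ℕ} (c : Ctx θ e)
include c

theorem col_B {g : GL chevG2.Idx K} (hg : g ∈ twistedG2 K e) (a : Fin 7) :
    Ad (fun i => B g i a) * B g = B g * Ad (Pi.single a 1) := by
  have h1 := Good.equiv_S (c.good hg) a
  have h2 : (fun i : Fin 7 => if i = a then (1 : K) else 0) = Pi.single a 1 := by
    funext i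
    rw [Pi.single_apply]
  unfold Good.gS Good.AS at h1
  rw [h2] at h1
  exact h1

theorem form_B {g : GL chevG2.Idx K} (hg : g ∈ twistedG2 K e) :
    (B g)ᵀ * JF K * B g = ((B g)ᵀ * JF K * B g) 0 6 • JF K := by
  have hJ : (JF K)ᵀ = JF K := by
    ext i j
    rw [Matrix.transpose_apply]
    fin_cases i <;> fin_cases j <;> rfl
  refine form_unique c.h3 (fun i j => ?_) fun x i j => ?_
  · have h1 : ((B g)ᵀ * JF K * B g)ᵀ = (B g)ᵀ * JF K * B g := by
      rw [Matrix.transpose_mul, Matrix.transpose_mul, Matrix.transpose_transpose, hJ, mul_assoc]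
    conv_rhs => rw [← h1]
    rfl
  · have h1 : (B g)ᵀ * JF K * B g * Ad x = (B g)ᵀ * TT (B g *ᵥ x) * B g := by
      rw [← JF_mul_Ad, mul_assoc, ← ad_of_col (col_B c hg)]
      simp only [mul_assoc]
    have h2 : ((B g)ᵀ * TT (B g *ᵥ x) * B g)ᵀ = -((B g)ᵀ * TT (B g *ᵥ x) * B g) := by
      have h3 : (TT (B g *ᵥ x))ᵀ = -TT (B g *ᵥ x) := by
        ext i j
        rw [Matrix.transpose_apply, Matrix.neg_apply, TT_skew]
      rw [Matrix.transpose_mul, Matrix.transpose_mul, Matrix.transpose_transpose, h3, mul_assoc, Matrix.neg_mul,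
        Matrix.mul_neg]
    rw [h1]
    have h4 := congrFun (congrFun h2 i) j
    rw [Matrix.transpose_apply, Matrix.neg_apply] at h4
    rw [h4, add_neg_cancel]

/-- the multiplier -/
theorem form_mul {g h : GL chevG2.Idx K} (hg : (B g)ᵀ * JF K * B g = JF K) (hh : (B h)ᵀ * JF K * B h = JF K)
    (hh' : h ∈ twistedG2 K e) : (B (g * h))ᵀ * JF K * B (g * h) = JF K := by
  rw [c.B_mul hh', Matrix.transpose_mul]
  calc (B h)ᵀ * (B g)ᵀ * JF K * (B g * B h) = (B h)ᵀ * ((B g)ᵀ * JF K * B g) * B h := by simp only [mul_assoc]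
    _ = JF K := by rw [hg, hh]

theorem corner (M : Matrix (Fin 7) (Fin 7) K) : (Mᵀ * JF K * M) 0 6 =
    M 0 0 * M 6 6 + M 1 0 * M 5 6 + M 2 0 * M 4 6 - M 3 0 * M 3 6 + M 4 0 * M 2 6 + M 5 0 * M 1 6 + M 6 0 * M 0 6 := by
  rw [mul_assoc, Matrix.mul_apply, Fin.sum_univ_seven]
  simp only [Matrix.mul_apply, Fin.sum_univ_seven, Matrix.transpose_apply]
  simp only [JF, _root_.Fin.isValue, _root_.Matrix.of_apply, _root_.Matrix.cons_val', _root_.Matrix.cons_val_zero, _root_.Matrix.cons_val_fin_one, _root_.MulZeroClass.zero_mul, _root_.Matrix.cons_val_one, _root_.add_zero, _root_.Matrix.cons_val, _root_.one_mul, _root_.zero_add, _root_.neg_mul, _root_.mul_neg, _root_.add_left_inj]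
  ring

theorem form_U (t u v : K) : (B (wU e t u v))ᵀ * JF K * B (wU e t u v) = JF K := by
  rw [form_B c (wU_mem e t u v), corner c, c.B_diag, c.B_diag]
  have h : ∀ i : Fin 7, i < 6 → B (wU e t u v) i 6 = 0 := fun i hi => c.B_low t u v i 6 hi
  rw [h 5 (by decide), h 4 (by decide), h 3 (by decide), h 2 (by decide), h 1 (by decide), h 0 (by decide)]
  simp

theorem form_N : (B (nU K))ᵀ * JF K * B (nU K) = JF K := by
  rw [form_B c c.nU_mem, corner c]
  simp [Ctx.B_nU]

theorem form_T (α : Kˣ) : (B (tU e α))ᵀ * JF K * B (tU e α) = JF K := by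
  rw [form_B c (c.torus α), corner c, c.B_tU]
  have h0 : Matrix.diagonal (Good.dfun (phi θ c.h3) ((α : K) ^ 2 * phi θ c.h3 α)) 0 0 = (c.dd α)⁻¹ := rfl
  have h6 : Matrix.diagonal (Good.dfun (phi θ c.h3) ((α : K) ^ 2 * phi θ c.h3 α)) 6 6 = c.dd α := rfl
  rw [h0, h6, inv_mul_cancel₀ (c.dd_ne α)]
  simp

/-- **The elements of the Ree group preserve the form and the product.** -/
theorem pres {g : GL chevG2.Idx K} (hg : g ∈ twistedG2 K e) : Pres (B g) := by
  refine ⟨?_, col_B c hg⟩
  rcases c.bruhat hg with ⟨t, u, v, α, rfl⟩ | ⟨t, u, v, α, t', u', v', rfl⟩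
  · exact form_mul c (form_U c t u v) (form_T c α) (c.torus α)
  · exact form_mul c (form_mul c (form_mul c (form_U c t u v) (form_T c α) (c.torus α)) (form_N c) c.nU_mem)
      (form_U c t' u' v') (wU_mem _ _ _ _)

end ree

end Cfsg.Agent.H141.ReeK
end

private theorem dce_ee498afc375a : _root_.True := by
  try have : _root_.True := by simp only [_root_.Cfsg.Agent.H141.ReeK.pCorner.eq_1]
  try have : _root_.True := by simp only [_root_.Cfsg.Agent.H141.ReeK.pCol.eq_1]
  try have : _root_.True := by simp only [_root_.Cfsg.Agent.H141.ReeK.Ad.eq_1]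
  try have : _root_.True := by simp only [_root_.Cfsg.Agent.H141.ReeK.JF.eq_1]
  try have : _root_.True := by simp only [_root_.Cfsg.Agent.H141.ReeK.TT.eq_1]
  try have : _root_.True := by simp only [_root_.Cfsg.Agent.H141.ReeK.fcol.eq_1]
  try have : _root_.True := by simp only [_root_.Cfsg.Agent.H141.ReeK.frow.eq_1]
  try have : _root_.True := by simp only [_root_.Cfsg.Agent.H141.ReeK.xt.eq_1]
  try have : _root_.True := by simp only [_root_.Cfsg.Agent.H141.ReeK.pRow.eq_1]
  try have : _root_.True := by simp only [_root_.Cfsg.Agent.H141.ReeK.xU.eq_1]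
  try have : _root_.True := by simp only [_root_.Cfsg.Agent.H141.ReeK.xv.eq_1]
  try have : _root_.True := by simp only [_root_.Cfsg.Agent.H141.ReeK.xu.eq_1]
  try have : _root_.True := by simp only [_root_.Cfsg.Agent.H141.ReeK.xT.eq_1]
  try have : _root_.True := by simp only [_root_.Cfsg.Agent.H141.ReeK.xV.eq_1]
  exact _root_.True.intro
end

-- part: H909/ReeBound
section
prune_inst 0x46040403340020000000090110000104000010000000000a9a1050202010002804200400a801401500a100008010000001000000000000000000000000301000000100400000200080098000080000000000000000000000000000000000004000000000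
set_option linter.all false
open scoped Cfsg.Agent.FastGrp

-- part: H909/ReeDig
section
/-!
# Ternary digits for the kernel of the Ree groups (helper909)
-/

set_option autoImplicit false
set_option linter.unusedSectionVars false

namespace Cfsg.Agent.H909.ReeKer

open Cfsg.Agent.H875.Fn Cfsg.Agent.H909.Sp4Ker

/-- digits -/
def dg (c i : ℕ) : ℕ := c / 3 ^ i % 3

theorem dg_lt (c i : ℕ) : dg c i < 3 := Nat.mod_lt _ (by norm_num)

instance : Fact (Nat.Prime 3) := ⟨Nat.prime_three⟩

theorem choose_ne {n c x : ℕ} (hc : c < 3 ^ n) (hx : x < 3 ^ n) :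
    ¬ 3 ∣ c.choose x ↔ ∀ i < n, dg x i ≤ dg c i := by
  have h := Choose.lucas_theorem_nat (p := 3) hc hx
  have key : ∀ a b : ℕ, a < 3 → b < 3 → (¬ 3 ∣ a.choose b ↔ b ≤ a) := by
    intro a b ha hb
    interval_cases a <;> interval_cases b <;> decide
  rw [Nat.ModEq.dvd_iff h (dvd_refl 3), Prime.dvd_finsetProd_iff Nat.prime_three.prime]
  push Not
  constructor
  · intro h1 i hi
    exact (key _ _ (dg_lt c i) (dg_lt x i)).1 (h1 i (Finset.mem_range.2 hi))
  · intro h1 i hi
    exact (key _ _ (dg_lt c i) (dg_lt x i)).2 (h1 i (Finset.mem_range.1 hi))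

/-- `(3^r - 1) / 2` -/
def H : ℕ → ℕ
  | 0 => 0
  | r + 1 => 3 * H r + 1

theorem two_H (r : ℕ) : 2 * H r + 1 = 3 ^ r := by
  induction r with
  | zero => rfl
  | succ r ih => rw [H, pow_succ, ← ih]; ring

theorem H_lt (r : ℕ) : H r < 3 ^ r := by have := two_H r; omega

theorem H_add (a b : ℕ) : H (a + b) = 3 ^ a * H b + H a := by
  have h1 := two_H (a + b)
  have h2 := two_H a
  have h3 := two_H b
  have h4 : 2 * H (a + b) + 1 = 2 * (3 ^ a * H b + H a) + 1 := by
    rw [h1, pow_add, ← h3]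
    calc 3 ^ a * (2 * H b + 1) = 2 * (3 ^ a * H b) + 3 ^ a := by ring
      _ = 2 * (3 ^ a * H b) + (2 * H a + 1) := by rw [h2]
      _ = 2 * (3 ^ a * H b + H a) + 1 := by ring
  omega

theorem dg_H {n i : ℕ} (hi : i < n) : dg (H n) i = 1 := by
  obtain ⟨b, rfl⟩ := Nat.exists_eq_add_of_lt hi
  rw [dg, show i + b + 1 = i + (b + 1) by ring, H_add, Nat.mul_add_div (pow_pos (by norm_num) i),
    Nat.div_eq_of_lt (H_lt i), add_zero, H]
  omega

theorem dg_one_add {l : ℕ} (hl : l ≠ 0) (t : ℕ) :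
    dg (1 + 3 ^ l) t = if t = 0 ∨ t = l then 1 else 0 := by
  have h3 : (3 : ℕ) ^ l = 3 * 3 ^ (l - 1) := by
    rw [← pow_succ']; congr 1; omega
  have h1 : 1 < 3 ^ l := Nat.one_lt_pow hl (by norm_num)
  rcases Nat.eq_zero_or_pos t with rfl | ht
  · rw [if_pos (Or.inl rfl), dg, pow_zero, Nat.div_one, h3]
    omega
  · rcases lt_trichotomy t l with h | h | h
    · rw [if_neg (by omega), dg]
      have h4 : (3 : ℕ) ^ l = 3 ^ t * (3 * 3 ^ (l - t - 1)) := by
        rw [← pow_succ', ← pow_add]; congr 1; omega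
      have h5 : 1 < 3 ^ t := Nat.one_lt_pow (by omega) (by norm_num)
      rw [h4, add_comm, Nat.mul_add_div (by omega), Nat.div_eq_of_lt h5, add_zero]
      exact Nat.mul_mod_right _ _
    · rw [if_pos (Or.inr h), dg, h]
      have h4 : (1 + 3 ^ l) / 3 ^ l = 1 := by
        rw [Nat.add_div_right _ (by omega), Nat.div_eq_of_lt h1]
      rw [h4]
    · rw [if_neg (by omega), dg]
      have h4 : 3 ^ (l + 1) ≤ 3 ^ t := Nat.pow_le_pow_right (by norm_num) h
      have h5 : 1 + 3 ^ l < 3 ^ t := by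
        refine lt_of_lt_of_le ?_ h4
        rw [pow_succ]; omega
      rw [Nat.div_eq_of_lt h5]

theorem mod_of_dg {x p : ℕ} (h : dg x p = 0) : x % 3 ^ (p + 1) = x % 3 ^ p := by
  rw [Nat.mod_pow_succ]
  rw [dg] at h
  rw [h, mul_zero, add_zero]

/-- no collision when a digit of `c` vanishes -/
theorem no_shift {n p x : ℕ} (hp : p < n) (h1 : dg x p = 0) (h2 : dg (x + H n) p = 0) : False := by
  have h3 := mod_of_dg h1
  have h4 := mod_of_dg h2
  have h5 : H n = 3 ^ (p + 1) * H (n - p - 1) + H (p + 1) := by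
    rw [← H_add]; congr 1; omega
  have h6 : H (p + 1) = 3 ^ p + H p := by
    rw [H_add, H, H]; ring
  have h7 : (x + H n) % 3 ^ (p + 1) = x % 3 ^ p + (3 ^ p + H p) := by
    rw [h5, ← add_assoc, add_comm x, add_assoc, Nat.add_comm (3 ^ (p + 1) * H (n - p - 1)),
      Nat.add_mul_mod_self_left, Nat.add_mod, h3, h6, Nat.mod_eq_of_lt (a := 3 ^ p + H p)]
    · apply Nat.mod_eq_of_lt
      have h8 : x % 3 ^ p < 3 ^ p := Nat.mod_lt _ (pow_pos (by norm_num) p)
      have h9 := H_lt p
      rw [pow_succ]; omega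
    · have h9 := H_lt p
      rw [pow_succ]; omega
  have h8 : (x + H n) % 3 ^ p < 3 ^ p := Nat.mod_lt _ (pow_pos (by norm_num) p)
  rw [h4] at h7
  omega

/-- uniqueness of `δ` -/
theorem no_collision {n p c x y : ℕ} (hc : c < 3 ^ n) (hp : p < n) (hcp : dg c p = 0)
    (hx : x ≤ c) (hy : y ≤ c) (hcx : ¬ 3 ∣ c.choose x) (hcy : ¬ 3 ∣ c.choose y)
    (h : red (3 ^ n) (2 * x) = red (3 ^ n) (2 * y)) : x = y := by
  have key : ∀ {x y : ℕ}, x ≤ c → y ≤ c → ¬ 3 ∣ c.choose x → ¬ 3 ∣ c.choose y →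
      red (3 ^ n) (2 * x) = red (3 ^ n) (2 * y) → x ≤ y → x = y := by
    intro x y hx hy hcx hcy h hxy
    have hH := two_H n
    have hdx : dg x p = 0 := by
      have := (choose_ne hc (lt_of_le_of_lt hx hc)).1 hcx p hp
      omega
    have hdy : dg y p = 0 := by
      have := (choose_ne hc (lt_of_le_of_lt hy hc)).1 hcy p hp
      omega
    by_cases hx0 : x = 0
    · subst hx0
      rw [mul_zero, red_zero] at h
      by_contra hne
      exact red_ne_zero (q := 3 ^ n) (n := 2 * y) (by omega) h.symm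
    · have hq : 3 ^ n - 1 = 2 * H n := by omega
      have h1 : 2 * x ≡ 2 * y [MOD 2 * H n] := by
        rw [← hq]
        exact (red_modEq (3 ^ n) (2 * x)).symm.trans (h ▸ red_modEq (3 ^ n) (2 * y))
      have h2 : x ≡ y [MOD H n] := by
        have := Nat.ModEq.mul_left_cancel' (c := 2) (by norm_num) h1
        exact this
      have h3 : H n ∣ y - x := (Nat.modEq_iff_dvd' hxy).1 h2
      obtain ⟨d, hd⟩ := h3
      have hHpos : 0 < H n := by
        have : 3 ^ 1 ≤ 3 ^ n := Nat.pow_le_pow_right (by norm_num) (by omega)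
        omega
      have hd2 : d < 2 := by
        by_contra hcon
        have : H n * 2 ≤ H n * d := Nat.mul_le_mul_left _ (by omega)
        (clear * - hc hy hH hx0 hd hHpos this; omega)
      interval_cases d
      · omega
      · exfalso
        have h5 : y = x + H n := by omega
        rw [h5] at hdy
        exact no_shift hp hdx hdy
  rcases le_total x y with h1 | h1
  · exact key hx hy hcx hcy h h1
  · exact (key hy hx hcy hcx h.symm h1).symm

theorem card4 {a b c d : ℕ} (hab : a < b) (hbc : b < c) (hcd : c < d) :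
    (SS 3 (3 ^ a + (3 ^ b + (3 ^ c + 3 ^ d)))).card = 16 := by
  have h1 : ∀ t, (SS 3 (3 ^ t)).card = 2 := by
    intro t
    have := card_SS_digit (p := 3) (c := 1) (by norm_num) t
    rwa [mul_one] at this
  have hlt : ∀ {x y : ℕ}, x < y → 3 ^ x < 3 ^ y := fun h => Nat.pow_lt_pow_right (by norm_num) h
  rw [card_SS_add (hlt hab), card_SS_add (hlt hbc), card_SS_add (hlt hcd) (dvd_refl _), h1, h1, h1, h1]
  · exact Dvd.dvd.add (dvd_refl _) (pow_dvd_pow 3 hcd.le) |>.trans (dvd_refl _)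
  · exact (dvd_refl _).add ((pow_dvd_pow 3 hbc.le).add (pow_dvd_pow 3 (hbc.le.trans hcd.le)))

end Cfsg.Agent.H909.ReeKer
end

-- part: H909/ReeBase
section
/-!
# The kernel of the Ree groups: functionals with power function values (helper909)
-/

set_option autoImplicit false
set_option linter.unusedSectionVars false

namespace Cfsg.Agent.H909.ReeKer

open Cfsg.Agent.H875.Fn Cfsg.Agent.H909.Sp4Ker

universe u v w

variable {E : Type u} [Field E] [Fintype E] {k : Type v} [Field k] (j : E →+* k)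
variable {V : Type w} [AddCommGroup V] [Module k V]

/-- functionals with pairwise distinct power functions as values -/
theorem le_of_powers [FiniteDimensional k V] {ι : Type*} [Fintype ι] (g : ι → Module.Dual k V) (w : E → V)
    (a : ι → k) (n : ι → ℕ) (ha : ∀ i, a i ≠ 0) (h : ∀ i y, g i (w y) = a i * j y ^ n i)
    (hn : Function.Injective fun i => red (Fintype.card E) (n i)) :
    Fintype.card ι ≤ Module.finrank k V := by
  classical
  have hq := two_le_card (E := E)
  refine le_of_biorth (fun i => (a i)⁻¹ • g i)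
    (fun l => ∑ y : E, be j (red (Fintype.card E) (n l)) y • w y) one_ne_zero fun i l => ?_
  rw [LinearMap.smul_apply, map_sum, smul_eq_mul]
  have h1 : ∀ y : E, g i (be j (red (Fintype.card E) (n l)) y • w y) =
      a i * (be j (red (Fintype.card E) (n l)) y * j y ^ red (Fintype.card E) (n i)) := by
    intro y
    rw [map_smul, smul_eq_mul, h, ← map_pow, pow_red y (n i), map_pow]
    ring
  simp only [h1]
  rw [← Finset.mul_sum, sum_be j (red_le hq _) (red_le hq _), ← mul_assoc, inv_mul_cancel₀ (ha i), one_mul]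
  by_cases h2 : i = l
  · rw [if_pos h2, h2, if_pos rfl]
  · rw [if_neg h2, if_neg]
    intro h3
    exact h2 (hn h3.symm)

/-- a kernel which is a polynomial in `t t'` -/
theorem curve_le [FiniteDimensional k V] {ι : Type*} [Fintype ι] (f : E → Module.Dual k V) (w : E → V)
    (a : ι → k) (n : ι → ℕ) (S : Finset ι) (h : ∀ t t', f t (w t') = ∑ i, a i * j (t * t') ^ n i)
    (ha : ∀ i ∈ S, a i ≠ 0)
    (hS : ∀ i ∈ S, ∀ l, red (Fintype.card E) (n i) = red (Fintype.card E) (n l) → i = l) :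
    S.card ≤ Module.finrank k V := by
  classical
  have hq := two_le_card (E := E)
  rw [← Fintype.card_coe]
  refine le_of_powers j (fun i : S => ∑ t : E, be j (red (Fintype.card E) (n i)) t • f t) w
    (fun i : S => a i) (fun i : S => n i) (fun i => ha i i.2) (fun i y => ?_)
    (fun i l hil => Subtype.ext (hS i i.2 l hil))
  rw [LinearMap.sum_apply]
  have h1 : ∀ t : E, (be j (red (Fintype.card E) (n i)) t • f t) (w y) =
      ∑ l : ι, (a l * j y ^ n l) * (be j (red (Fintype.card E) (n i)) t * j t ^ red (Fintype.card E) (n l)) := by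
    intro t
    rw [LinearMap.smul_apply, smul_eq_mul, h, Finset.mul_sum]
    refine Finset.sum_congr rfl fun l _ => ?_
    rw [map_mul, mul_pow, ← map_pow j t (n l), pow_red t (n l), map_pow]
    ring
  simp only [h1]
  rw [Finset.sum_comm]
  rw [Finset.sum_eq_single (i : ι)]
  · rw [← Finset.mul_sum, sum_be j (red_le hq _) (red_le hq _), if_pos rfl, mul_one]
  · intro l _ hl
    rw [← Finset.mul_sum, sum_be j (red_le hq _) (red_le hq _), if_neg, mul_zero]
    intro h3
    exact hl (hS i i.2 l h3).symm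
  · intro h3
    exact absurd (Finset.mem_univ _) h3

/-- the functionals for the rows `(0, u, v)` -/
theorem exists_fun [CharP k 3] {e c : ℕ} (f : E → E → Module.Dual k V) (w : E → V)
    (h : ∀ u v y, f u v (w y) = j ((1 - u * y) ^ (1 + e) + v ^ 2 * y ^ (1 + e)) ^ c)
    {δ κ : ℕ} (hδ : δ ≤ c) (hκ : κ ∈ SS 3 (red (Fintype.card E) ((1 + e) * (c - δ))))
    (hcol : ∀ δ' ≤ c, ¬ 3 ∣ c.choose δ' → red (Fintype.card E) (2 * δ') = red (Fintype.card E) (2 * δ) →
      δ' = δ ∨ (δ' = c ∧ κ ≠ 0)) :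
    ∃ G : Module.Dual k V, ∀ y, G (w y) = (c.choose δ : k) * j y ^ ((1 + e) * δ + κ) := by
  classical
  have hq := two_le_card (E := E)
  obtain ⟨α, hα⟩ := exists_al j 3 ((1 + e) * (c - δ)) hκ
  refine ⟨∑ t : E, ∑ v : E, (α t * be j (red (Fintype.card E) (2 * δ)) v) • f (-t) v, fun y => ?_⟩
  have h1 : ∀ t v : E, ((α t * be j (red (Fintype.card E) (2 * δ)) v) • f (-t) v) (w y) =
      ∑ d ∈ Finset.range (c + 1), (α t * j (1 + y * t) ^ ((1 + e) * (c - d))) * ((c.choose d : k) *
        j y ^ ((1 + e) * d)) * (be j (red (Fintype.card E) (2 * δ)) v *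
          j v ^ red (Fintype.card E) (2 * d)) := by
    intro t v
    rw [LinearMap.smul_apply, smul_eq_mul, h, map_add, add_comm (j ((1 - -t * y) ^ (1 + e))), add_pow,
      Finset.mul_sum]
    refine Finset.sum_congr rfl fun d _ => ?_
    have h2 : j (v ^ 2 * y ^ (1 + e)) ^ d = j y ^ ((1 + e) * d) * j v ^ red (Fintype.card E) (2 * d) := by
      rw [← map_pow j v (red _ _), ← pow_red v (2 * d), map_pow, map_mul, map_pow, map_pow, mul_pow,
        ← pow_mul, ← pow_mul, mul_comm]
    have h3 : j ((1 - -t * y) ^ (1 + e)) ^ (c - d) = j (1 + y * t) ^ ((1 + e) * (c - d)) := by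
      rw [map_pow, ← pow_mul]
      congr 2
      ring
    rw [h2, h3]
    ring
  rw [LinearMap.sum_apply]
  simp only [LinearMap.sum_apply, h1]
  have h4 : ∀ t : E, ∑ v : E, ∑ d ∈ Finset.range (c + 1),
      (α t * j (1 + y * t) ^ ((1 + e) * (c - d))) * ((c.choose d : k) *
        j y ^ ((1 + e) * d)) * (be j (red (Fintype.card E) (2 * δ)) v *
          j v ^ red (Fintype.card E) (2 * d)) =
      ∑ d ∈ Finset.range (c + 1), (α t * j (1 + y * t) ^ ((1 + e) * (c - d))) * ((c.choose d : k) *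
        j y ^ ((1 + e) * d)) * (if red (Fintype.card E) (2 * δ) = red (Fintype.card E) (2 * d) then 1 else 0) := by
    intro t
    rw [Finset.sum_comm]
    refine Finset.sum_congr rfl fun d _ => ?_
    rw [← Finset.mul_sum, sum_be j (red_le hq _) (red_le hq _)]
  simp only [h4]
  rw [Finset.sum_comm]
  rw [Finset.sum_eq_single δ]
  · simp only [if_true, mul_one]
    rw [← Finset.sum_mul, hα, pow_add]
    ring
  · intro d hd hne
    rw [Finset.mem_range] at hd
    by_cases h5 : red (Fintype.card E) (2 * δ) = red (Fintype.card E) (2 * d)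
    · by_cases h6 : 3 ∣ c.choose d
      · have h7 : (c.choose d : k) = 0 := (CharP.cast_eq_zero_iff k 3 _).2 h6
        simp only [h7, zero_mul, mul_zero, Finset.sum_const_zero]
      · rcases hcol d (by omega) h6 h5.symm with h8 | ⟨h8, h9⟩
        · exact absurd h8 hne
        · have h10 := hα 0
          simp only [zero_mul, add_zero, map_one, one_pow, mul_one, map_zero, zero_pow h9] at h10
          rw [h8]
          simp only [Nat.sub_self, mul_zero, pow_zero, mul_one]
          rw [← Finset.sum_mul, ← Finset.sum_mul, h10, zero_mul, zero_mul]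
    · simp only [h5, if_false, mul_zero, Finset.sum_const_zero]
  · intro h5
    exact absurd (Finset.mem_range.2 (by omega)) h5

end Cfsg.Agent.H909.ReeKer
end

-- part: H909/ReeKer
section
/-!
# The kernel of the Ree groups: the formulas and the curve `(t, 0, 0)` (helper909)
-/

set_option autoImplicit false
set_option linter.unusedSectionVars false

namespace Cfsg.Agent.H909.ReeKer

open Cfsg.Agent.H875.Fn Cfsg.Agent.H909.Sp4Ker Cfsg.Agent.H141.ReeK

universe u v w

section formulas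

variable {K : Type u} [Field K]

theorem ker_uv {e : ℕ} (he : e ≠ 0) (u v y : K) :
    ker e 0 u v 0 y 0 = 1 - u * y - u ^ e * y ^ e + u * y * (u ^ e * y ^ e) + (v ^ e) ^ 2 * y ^ (1 + e) := by
  rw [ker, Fin.sum_univ_seven]
  simp only [frow, fcol, Fin.rev, zero_pow he, _root_.MulZeroClass.zero_mul, _root_.add_zero, _root_.sub_zero, _root_.ne_eq, _root_.OfNat.ofNat_ne_zero, _root_.not_false_eq_true, _root_.zero_pow, _root_.MulZeroClass.mul_zero, _root_.Fin.isValue, _root_.Matrix.cons_val_zero, _root_.neg_zero, _root_.sub_self, _root_.zero_sub, _root_.Fin.coe_ofNat_eq_mod, _root_.Nat.zero_mod, _root_.zero_add, _root_.Nat.add_one_sub_one, _root_.Fin.reduceFinMk, _root_.Matrix.cons_val, _root_.mul_neg, _root_.Matrix.cons_val_one, _root_.Nat.one_mod, _root_.Nat.reduceAdd, _root_.Nat.reduceSub, _root_.Nat.reduceMod, _root_.neg_mul, _root_.Fin.mk_one, _root_.Nat.mod_succ, _root_.tsub_self, _root_.Fin.zero_eta, _root_.mul_one]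
  ring

theorem ker_uv' [CharP K 3] {m : ℕ} (u V y : K) (hV : V ^ (3 ^ m * 3 ^ m * 3) = V) :
    ker (3 ^ m) 0 u (V ^ (3 ^ m * 3)) 0 y 0 =
      (1 - u * y) ^ (1 + 3 ^ m) + V ^ 2 * y ^ (1 + 3 ^ m) := by
  rw [ker_uv (pow_ne_zero _ (by norm_num)), ← pow_mul V, show 3 ^ m * 3 * 3 ^ m = 3 ^ m * 3 ^ m * 3 by ring, hV]
  congr 1
  rw [pow_add, pow_one, sub_pow_char_pow, one_pow, mul_pow]
  ring

theorem ker_t {e : ℕ} (he : e ≠ 0) (t t' : K) :
    ker e t 0 0 t' 0 0 = 1 - (t * t') ^ e - (t * t') * ((t * t') ^ e) ^ 3 + (t * t') ^ 2 * ((t * t') ^ e) ^ 3 +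
      (t * t') ^ 2 * ((t * t') ^ e) ^ 4 := by
  rw [ker, Fin.sum_univ_seven]
  simp only [frow, fcol, Fin.rev, zero_pow he, _root_.ne_eq, _root_.OfNat.ofNat_ne_zero, _root_.not_false_eq_true, _root_.zero_pow, _root_.neg_zero, _root_.MulZeroClass.mul_zero, _root_.sub_self, _root_.add_zero, _root_.zero_add, _root_.zero_sub, _root_.Fin.isValue, _root_.Matrix.cons_val_zero, _root_.Fin.coe_ofNat_eq_mod, _root_.Nat.zero_mod, _root_.Nat.add_one_sub_one, _root_.Fin.reduceFinMk, _root_.Matrix.cons_val, _root_.Matrix.cons_val_one, _root_.Nat.one_mod, _root_.Nat.reduceAdd, _root_.Nat.reduceSub, _root_.mul_neg, _root_.neg_mul, _root_.neg_neg, _root_.Nat.reduceMod, _root_.MulZeroClass.zero_mul, _root_.Fin.mk_one, _root_.Nat.mod_succ, _root_.tsub_self, _root_.Fin.zero_eta, _root_.mul_one]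
  ring

end formulas

/-! ### the exponents on the curve -/

def A2 : Fin 13 → ℕ := ![0, 0, 0, 1, 2, 1, 2, 2, 3, 4, 3, 4, 4]
def B2 : Fin 13 → ℕ := ![0, 1, 2, 3, 3, 4, 5, 6, 6, 6, 7, 7, 8]

def A18 : Fin 18 → ℕ := ![0, 1, 0, 1, 1, 2, 3, 2, 3, 4, 5, 3, 4, 5, 4, 6, 5, 6]
def B18 : Fin 18 → ℕ := ![0, 0, 1, 1, 3, 3, 3, 4, 6, 6, 6, 7, 7, 7, 9, 9, 10, 10]

theorem mono2 {e : ℕ} (he : 9 ≤ e) : StrictMono fun i => A2 i + B2 i * e := by
  rw [Fin.strictMono_iff_lt_succ]
  intro i
  (revert i; simp only [A2, B2, _root_.Fin.forall_fin_succ, _root_.Matrix.cons_val_succ, Fin.isValue, _root_.Fin.castSucc_zero, _root_.Matrix.cons_val_zero, _root_.MulZeroClass.zero_mul, _root_.add_zero, _root_.one_mul, _root_.zero_add, _root_.Fin.castSucc_succ, Nat.reduceAdd, _root_.add_lt_add_iff_right, _root_.Order.lt_two_iff, _root_.Std.le_refl, _root_.add_lt_add_iff_left, _root_.Nat.lt_add_one, _root_.Matrix.cons_val_fin_one, _root_.lt_self_iff_false, _root_.IsEmpty.forall_iff, _root_.and_true,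 _root_.true_and]) <;> (repeat' with_reducible apply And.intro) <;> omega

theorem mono18 {e : ℕ} (he : 9 ≤ e) : StrictMono fun i => A18 i + B18 i * e := by
  rw [Fin.strictMono_iff_lt_succ]
  intro i
  (revert i; simp only [A18, B18, _root_.Fin.forall_fin_succ, _root_.Matrix.cons_val_succ, Fin.isValue, _root_.Fin.castSucc_zero, _root_.Matrix.cons_val_zero, _root_.MulZeroClass.zero_mul, _root_.add_zero, _root_.Order.lt_one_iff, _root_.Fin.castSucc_succ, Nat.reduceAdd, _root_.one_mul, _root_.zero_add, _root_.lt_add_iff_pos_left, _root_.add_lt_add_iff_left, _root_.add_lt_add_iff_right, _root_.Order.lt_two_iff, _root_.Std.le_refl, _root_.Nat.lt_add_one, Nat.reduceLT, _root_.Matrix.cons_val_fin_one, _root_.lt_self_iff_false, _root_.IsEmpty.forall_iff, _root_.and_self, _root_.and_true, _root_.true_and]) <;> (repeat' with_reducible apply And.intro) <;> omega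

theorem le2 {e q : ℕ} (he : 9 ≤ e) (hq : q = 3 * (e * e)) (i : Fin 13) : A2 i + B2 i * e ≤ q - 1 := by
  have h1 : 27 * e ≤ 3 * (e * e) := by nlinarith only [he]
  (revert i; simp only [A2, B2, _root_.Fin.forall_fin_succ, _root_.ge_iff_le, Fin.isValue, _root_.Matrix.cons_val_zero, _root_.MulZeroClass.zero_mul, _root_.add_zero, _root_.zero_le, _root_.Matrix.cons_val_succ, _root_.one_mul, _root_.zero_add, _root_.Matrix.cons_val_fin_one, _root_.forall_const, _root_.true_and]) <;> (repeat' with_reducible apply And.intro) <;> omega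

theorem le18 {e q : ℕ} (he : 9 ≤ e) (hq : q = 3 * (e * e)) (i : Fin 18) : A18 i + B18 i * e ≤ q - 1 := by
  have h1 : 27 * e ≤ 3 * (e * e) := by nlinarith
  (revert i; simp only [A18, B18, _root_.Fin.forall_fin_succ, _root_.ge_iff_le, Fin.isValue, _root_.Matrix.cons_val_zero, _root_.MulZeroClass.zero_mul, _root_.add_zero, _root_.zero_le, _root_.Matrix.cons_val_succ, _root_.one_mul, _root_.zero_add, _root_.Matrix.cons_val_fin_one, _root_.forall_const, _root_.true_and]) <;> (repeat' with_reducible apply And.intro) <;> omega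

theorem inj2_three : ∀ i l : Fin 13, red 27 (A2 i + B2 i * 3) = red 27 (A2 l + B2 l * 3) → i = l := by
  decide +kernel

theorem inj18_three : ∀ i l : Fin 18, i ≠ 4 → i ≠ 17 →
    red 27 (A18 i + B18 i * 3) = red 27 (A18 l + B18 l * 3) → i = l := by
  decide +kernel

section curve

variable {K : Type u} [Field K] [Fintype K] {k : Type v} [Field k] (j : K →+* k)
variable {V : Type w} [AddCommGroup V] [Module k V] [FiniteDimensional k V]

theorem three_pow_cases {m : ℕ} (hm : 1 ≤ m) : (m = 1) ∨ 9 ≤ 3 ^ m := by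
  rcases Nat.eq_or_lt_of_le hm with h | h
  · exact Or.inl h.symm
  · exact Or.inr (by
      calc 9 = 3 ^ 2 := by norm_num
        _ ≤ 3 ^ m := Nat.pow_le_pow_right (by norm_num) h)

theorem t_two [CharP k 3] {m : ℕ} (hm : 1 ≤ m) (hK : Fintype.card K = 3 ^ (2 * m + 1))
    (f : K → Module.Dual k V) (w : K → V)
    (h : ∀ t t', f t (w t') = j (ker (3 ^ m) t 0 0 t' 0 0) ^ 2) : 13 ≤ Module.finrank k V := by
  have h2 : (2 : k) ≠ 0 := by
    intro h0
    have h1 : ((2 : ℕ) : k) = 0 := by exact_mod_cast h0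
    rw [CharP.cast_eq_zero_iff k 3] at h1
    omega
  have h0 : (3 : ℕ) ^ m ≠ 0 := pow_ne_zero _ (by norm_num)
  have hq : Fintype.card K = 3 * (3 ^ m * 3 ^ m) := by rw [hK, pow_succ, two_mul, pow_add]; ring
  have h1 := curve_le j f w (![1, -2, 1, -2, 2, 2, -2, 1, -2, 1, -2, 2, 1] : Fin 13 → k)
    (fun i => A2 i + B2 i * 3 ^ m) Finset.univ (by
      intro t t'
      rw [h, ker_t h0]
      simp only [map_add, map_sub, map_mul (f := j) _ ((_ : K) ^ 3), map_mul (f := j) _ ((_ : K) ^ 4), map_pow,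
        map_one]
      generalize j (t * t') = x
      simp only [pow_add, mul_comm (B2 _), pow_mul x]
      generalize x ^ 3 ^ m = y
      simp only [Fin.sum_univ_succ, A2, B2, _root_.Nat.succ_eq_add_one, _root_.Nat.reduceAdd, _root_.Fin.isValue, _root_.Matrix.cons_val_zero, _root_.pow_zero, _root_.mul_one, _root_.Matrix.cons_val_succ, _root_.pow_one, _root_.one_mul, _root_.neg_mul, _root_.Finset.univ_unique, _root_.Fin.default_eq_zero, _root_.Matrix.cons_val_fin_one, _root_.Finset.sum_const, _root_.Finset.card_singleton, _root_.one_smul]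
      ring) (by
      intro i _
      (revert i; simp only [h2, _root_.Fin.forall_fin_succ, _root_.Nat.succ_eq_add_one, Nat.reduceAdd, _root_.Finset.mem_univ, _root_.ne_eq, _root_.forall_const, Fin.isValue, _root_.Matrix.cons_val_zero, _root_.one_ne_zero, _root_.not_false_eq_true, _root_.Matrix.cons_val_succ, _root_.neg_eq_zero, _root_.Matrix.cons_val_fin_one, _root_.implies_true, _root_.and_self])) (by
      intro i _ l hil
      rcases three_pow_cases hm with rfl | h9
      · apply inj2_three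
        rw [hK] at hil
        exact hil
      · rw [red_eq (le2 h9 hq i), red_eq (le2 h9 hq l)] at hil
        exact (mono2 h9).injective hil)
  rwa [Finset.card_univ, Fintype.card_fin] at h1

theorem t_succ [CharP k 3] {m : ℕ} (hm : 1 ≤ m) (hK : Fintype.card K = 3 ^ (2 * m + 1))
    (f : K → Module.Dual k V) (w : K → V)
    (h : ∀ t t', f t (w t') = j (ker (3 ^ m) t 0 0 t' 0 0) ^ (1 + 3 ^ (m + 1))) : 13 ≤ Module.finrank k V := by
  have h2 : (2 : k) ≠ 0 := by
    intro h0
    have h1 : ((2 : ℕ) : k) = 0 := by exact_mod_cast h0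
    rw [CharP.cast_eq_zero_iff k 3] at h1
    omega
  have h0 : (3 : ℕ) ^ m ≠ 0 := pow_ne_zero _ (by norm_num)
  have hq : Fintype.card K = 3 * (3 ^ m * 3 ^ m) := by rw [hK, pow_succ, two_mul, pow_add]; ring
  have h13 : 13 ≤ ({4, 17}ᶜ : Finset (Fin 18)).card := by decide
  refine h13.trans (curve_le j f w (![1, -1, -1, 1, -1, 2, -2, 1, 1, 2, -1, -1, -1, -1, -1, 1, 1, 1] : Fin 18 → k)
    (fun i => A18 i + B18 i * 3 ^ m) ({4, 17}ᶜ : Finset (Fin 18)) (by
      intro t t'
      rw [h, ker_t h0]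
      have hx : j (t * t') ^ 3 ^ (2 * m + 1) = j (t * t') := by
        rw [← map_pow, ← hK, FiniteField.pow_card]
      simp only [map_add, map_sub, map_mul (f := j) _ ((_ : K) ^ 3), map_mul (f := j) _ ((_ : K) ^ 4), map_pow,
        map_one]
      revert hx
      generalize j (t * t') = x
      intro hx
      simp only [pow_add _ (A18 _), mul_comm (B18 _), pow_mul x]
      have hy1 : (x ^ 3 ^ m) ^ 3 ^ (m + 1) = x := by
        rw [← pow_mul, ← pow_add, show m + (m + 1) = 2 * m + 1 by ring, hx]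
      have hy2 : x ^ 3 ^ (m + 1) = (x ^ 3 ^ m) ^ 3 := by
        rw [← pow_mul, pow_succ]
      rw [pow_add _ 1, pow_one, add_pow_char_pow, add_pow_char_pow, sub_pow_char_pow, sub_pow_char_pow, mul_pow,
        mul_pow, mul_pow, one_pow, pow_right_comm (x ^ 3 ^ m) 3, pow_right_comm (x ^ 3 ^ m) 4,
        pow_right_comm x 2, hy1, hy2]
      generalize x ^ 3 ^ m = y
      simp only [Fin.sum_univ_succ, A18, B18, _root_.Nat.succ_eq_add_one, _root_.Nat.reduceAdd, _root_.Fin.isValue, _root_.Matrix.cons_val_zero, _root_.pow_zero, _root_.mul_one, _root_.Matrix.cons_val_succ, _root_.pow_one, _root_.neg_mul, _root_.one_mul, _root_.Finset.univ_unique, _root_.Fin.default_eq_zero, _root_.Matrix.cons_val_fin_one, _root_.Finset.sum_const, _root_.Finset.card_singleton, _root_.one_smul]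
      ring) (by
      intro i _
      (revert i; simp only [h2, _root_.Fin.forall_fin_succ, _root_.Nat.succ_eq_add_one, Nat.reduceAdd, Fin.isValue, _root_.Finset.compl_insert, _root_.Finset.mem_erase, _root_.ne_eq, _root_.Finset.mem_compl, _root_.Finset.mem_singleton, _root_.and_imp, Fin.reduceEq, _root_.not_false_eq_true, _root_.Matrix.cons_val_zero, _root_.one_ne_zero, _root_.imp_self, _root_.Matrix.cons_val_succ, _root_.Fin.succ_zero_eq_one, _root_.neg_eq_zero, _root_.Fin.succ_one_eq_two, Fin.reduceSucc, _root_.not_true_eq_false, _root_.implies_true, _root_.Matrix.cons_val_fin_one, _root_.and_self])) (by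
      intro i hi l hil
      rw [Finset.mem_compl, Finset.mem_insert, Finset.mem_singleton, not_or] at hi
      rcases three_pow_cases hm with rfl | h9
      · apply inj18_three i l hi.1 hi.2
        rw [hK] at hil
        exact hil
      · rw [red_eq (le18 h9 hq i), red_eq (le18 h9 hq l)] at hil
        exact (mono18 h9).injective hil))

end curve

end Cfsg.Agent.H909.ReeKer
end

-- part: H909/ReeBound
section
/-!
# The exponents for the Ree groups, dimension at most 12 (helper909)
-/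

set_option autoImplicit false
set_option linter.unusedSectionVars false

namespace Cfsg.Agent.H909.ReeKer

open Cfsg.Agent.H875.Fn Cfsg.Agent.H909.Sp4Ker Cfsg.Agent.H141.ReeK

universe u v w

/-! ### digits -/

theorem eq_dg_zero {n c : ℕ} (hn : 1 ≤ n) (hc : c < 3 ^ n) (h : ∀ l, 1 ≤ l → l < n → dg c l = 0) :
    c = dg c 0 := by
  have h1 : ∀ l, l < n → c % 3 ^ (l + 1) = c % 3 := by
    intro l
    induction l with
    | zero => intro _; rw [zero_add, pow_one]
    | succ l ih =>
      intro hl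
      rw [mod_of_dg (h (l + 1) (by omega) hl), ih (by omega)]
  have h2 := h1 (n - 1) (by omega)
  rw [Nat.sub_add_cancel hn, Nat.mod_eq_of_lt hc] at h2
  rw [dg, pow_zero, Nat.div_one]
  exact h2

theorem dg_pred {n i : ℕ} (hi : i < n) : dg (3 ^ n - 1) i = 2 := by
  have h1 : 3 ^ n - 1 = 3 ^ i * (3 ^ (n - i) - 1) + (3 ^ i - 1) := by
    have h2 : 3 ^ n = 3 ^ i * 3 ^ (n - i) := by rw [← pow_add]; congr 1; omega
    have h3 : 1 ≤ 3 ^ i := Nat.one_le_pow _ _ (by norm_num)
    have h4 : 3 ^ i * 1 ≤ 3 ^ i * 3 ^ (n - i) := Nat.mul_le_mul_left _ (Nat.one_le_pow _ _ (by norm_num))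
    rw [h2, Nat.mul_sub, mul_one]
    omega
  have h3 : 1 ≤ 3 ^ i := Nat.one_le_pow _ _ (by norm_num)
  have h4 : 3 ^ (n - i) = 3 * 3 ^ (n - i - 1) := by rw [← pow_succ']; congr 1; omega
  have h5 : 1 ≤ 3 ^ (n - i - 1) := Nat.one_le_pow _ _ (by norm_num)
  rw [dg, h1, Nat.mul_add_div (by omega), Nat.div_eq_of_lt (a := 3 ^ i - 1) (by omega)]
  omega

theorem dg_zero_ne {c : ℕ} (h : ¬ 3 ∣ c) : dg c 0 ≠ 0 := by
  rw [dg, pow_zero, Nat.div_one]
  omega

/-- three digits `1, 1, 2` or a permutation -/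
theorem card3 {a b c x y z : ℕ} (hab : a < b) (hbc : b < c) (hx : x < 3) (hy : y < 3) (hz : z < 3) :
    (SS 3 (3 ^ a * x + (3 ^ b * y + 3 ^ c * z))).card = (x + 1) * ((y + 1) * (z + 1)) := by
  have h1 : ∀ {x y : ℕ} (c : ℕ), c < 3 → x < y → 3 ^ x * c < 3 ^ y := by
    intro x y c hc h
    calc 3 ^ x * c < 3 ^ x * 3 := Nat.mul_lt_mul_of_pos_left hc (pow_pos (by norm_num) x)
      _ = 3 ^ (x + 1) := (pow_succ 3 x).symm
      _ ≤ 3 ^ y := Nat.pow_le_pow_right (by norm_num) h
  rw [card_SS_add (h1 x hx hab) (((dvd_refl _).mul_right y).add ((pow_dvd_pow 3 hbc.le).mul_right z)),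
    card_SS_add (h1 y hy hbc) ((dvd_refl _).mul_right z), card_SS_digit hx, card_SS_digit hy, card_SS_digit hz]

/-- the exponent `(1 + 3 ^ m) (1 + 3 ^ l)` -/
theorem red_case {m l : ℕ} (hm : 1 ≤ m) (hl : 1 ≤ l) (hl2 : l < 2 * m + 1) :
    red (3 ^ (2 * m + 1)) ((1 + 3 ^ m) * (1 + 3 ^ l)) < 3 ^ (2 * m + 1) - 1 ∧
    12 ≤ (SS 3 (red (3 ^ (2 * m + 1)) ((1 + 3 ^ m) * (1 + 3 ^ l)))).card ∧
    (l ≠ m → l ≠ m + 1 → 13 ≤ (SS 3 (red (3 ^ (2 * m + 1)) ((1 + 3 ^ m) * (1 + 3 ^ l)))).card) := by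
  have hlt : ∀ {x y : ℕ}, x < y → 3 * 3 ^ x ≤ 3 ^ y := by
    intro x y h
    rw [← pow_succ']
    exact Nat.pow_le_pow_right (by norm_num) h
  rcases lt_trichotomy l m with h | h | h
  · -- positions `0, l, m, m + l`
    have h1 : (1 + 3 ^ m) * (1 + 3 ^ l) = 3 ^ 0 + (3 ^ l + (3 ^ m + 3 ^ (m + l))) := by
      rw [pow_add]; ring
    have h2 := hlt (show 0 < l by omega)
    have h3 := hlt h
    have h4 := hlt (show m < m + l by omega)
    have h5 := hlt (show m + l < 2 * m + 1 by omega)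
    have h6 : (3 : ℕ) ^ 0 = 1 := pow_zero 3
    have h7 := card4 (show 0 < l by omega) h (show m < m + l by omega)
    rw [h1, red_eq (by omega), h7]
    exact ⟨by omega, by norm_num, fun _ _ => by norm_num⟩
  · subst h
    have h1 : (1 + 3 ^ l) * (1 + 3 ^ l) = 3 ^ 0 * 1 + (3 ^ l * 2 + 3 ^ (2 * l) * 1) := by
      rw [two_mul, pow_add]; ring
    have h2 := hlt (show 0 < l by omega)
    have h3 := hlt (show l < 2 * l by omega)
    have h4 := hlt (show 2 * l < 2 * l + 1 by omega)
    have h6 : (3 : ℕ) ^ 0 = 1 := pow_zero 3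
    have h7 := card3 (x := 1) (y := 2) (z := 1) (show 0 < l by omega) (show l < 2 * l by omega)
      (by norm_num) (by norm_num) (by norm_num)
    rw [h1, red_eq (by omega), h7]
    exact ⟨by omega, by norm_num, fun h _ => absurd rfl h⟩
  · obtain ⟨r, rfl⟩ := Nat.exists_eq_add_of_lt h
    have h8 : 1 ≤ 3 ^ (2 * m + 1) := Nat.one_le_pow _ _ (by norm_num)
    have h1 : red (3 ^ (2 * m + 1)) ((1 + 3 ^ m) * (1 + 3 ^ (m + r + 1))) =
        red (3 ^ (2 * m + 1)) (1 + (3 ^ r + (3 ^ m + 3 ^ (m + r + 1)))) := by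
      apply red_congr
      · positivity
      · positivity
      · have h9 : (1 + 3 ^ m) * (1 + 3 ^ (m + r + 1)) =
            (1 + (3 ^ r + (3 ^ m + 3 ^ (m + r + 1)))) + (3 ^ (2 * m + 1) - 1) * 3 ^ r := by
          zify [h8]
          ring
        rw [h9]
        exact (Nat.modEq_zero_iff_dvd.2 (Dvd.intro _ rfl)).add_left _ |>.trans (by rw [add_zero])
    rw [h1]
    rcases Nat.eq_zero_or_pos r with rfl | hr
    · have h2 : 1 + (3 ^ 0 + (3 ^ m + 3 ^ (m + 0 + 1))) = 3 ^ 0 * 2 + (3 ^ m * 1 + 3 ^ (m + 1) * 1) := by ring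
      have h3 := hlt (show 0 < m by omega)
      have h4 := hlt (show m < m + 1 by omega)
      have h5 := hlt (show m + 1 < 2 * m + 1 by omega)
      have h6 : (3 : ℕ) ^ 0 = 1 := pow_zero 3
      have h7 := card3 (x := 2) (y := 1) (z := 1) (show 0 < m by omega) (show m < m + 1 by omega)
        (by norm_num) (by norm_num) (by norm_num)
      rw [h2, red_eq (by (clear * - h8 h5; omega)), h7]
      exact ⟨by (clear * - h3 h5; omega), by norm_num, fun _ h => absurd rfl h⟩
    · have h2 : 1 + (3 ^ r + (3 ^ m + 3 ^ (m + r + 1))) = 3 ^ 0 + (3 ^ r + (3 ^ m + 3 ^ (m + r + 1))) := by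
        rw [pow_zero]
      have h3 := hlt hr
      have h4 := hlt (show r < m by omega)
      have h5 := hlt (show m < m + r + 1 by omega)
      have h6 := hlt (show m + r + 1 < 2 * m + 1 by omega)
      have h9 : (3 : ℕ) ^ 0 = 1 := pow_zero 3
      have h7 := card4 hr (show r < m by omega) (show m < m + r + 1 by omega)
      rw [h2, red_eq (by omega), h7]
      exact ⟨by omega, by norm_num, fun _ _ => by norm_num⟩

theorem inj_aux {q D x y : ℕ} (hx : x < q - 1) (hy : y < q - 1) (h : red q (D + x) = red q (D + y)) : x = y := by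
  have h1 : D + x ≡ D + y [MOD q - 1] := (red_modEq q (D + x)).symm.trans (h ▸ red_modEq q (D + y))
  exact Nat.ModEq.eq_of_lt_of_lt (Nat.ModEq.add_left_cancel' D h1) hx hy

/-- the collisions when no digit of `c` vanishes -/
theorem collision {n c x : ℕ} (hc : c ≤ 3 ^ n - 1) (hHc : H n ≤ c) (hx : x ≤ c)
    (h : red (3 ^ n) (2 * x) = red (3 ^ n) (2 * (c - H n))) : x = c - H n ∨ x = c := by
  have hH := two_H n
  have hq : 3 ^ n - 1 = 2 * H n := by omega
  by_cases hx0 : x = 0
  · left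
    rw [hx0, mul_zero, red_zero] at h
    by_contra hne
    exact red_ne_zero (q := 3 ^ n) (n := 2 * (c - H n)) (by omega) h.symm
  by_cases hδ0 : c - H n = 0
  · rw [hδ0, mul_zero, red_zero] at h
    exact absurd h (red_ne_zero (by omega))
  have h1 : 2 * x ≡ 2 * (c - H n) [MOD 2 * H n] := by
    rw [← hq]
    exact (red_modEq (3 ^ n) (2 * x)).symm.trans (h ▸ red_modEq (3 ^ n) (2 * (c - H n)))
  have h2 : x ≡ c - H n [MOD H n] := Nat.ModEq.mul_left_cancel' (c := 2) (by norm_num) h1
  rcases le_total x (c - H n) with h3 | h3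
  · left
    have h4 : H n ∣ c - H n - x := (Nat.modEq_iff_dvd' h3).1 h2
    have h5 : c - H n - x = 0 := Nat.eq_zero_of_dvd_of_lt h4 (by omega)
    omega
  · have h4 : H n ∣ x - (c - H n) := (Nat.modEq_iff_dvd' h3).1 h2.symm
    obtain ⟨d, hd⟩ := h4
    have hHpos : 0 < H n := by omega
    have hd2 : d < 2 := by
      by_contra hcon
      have : H n * 2 ≤ H n * d := Nat.mul_le_mul_left _ (by omega)
      omega
    interval_cases d
    · left; omega
    · right; omega

section main

variable {K : Type u} [Field K] [Fintype K] {k : Type v} [Field k] (j : K →+* k)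
variable {V : Type w} [AddCommGroup V] [Module k V] [FiniteDimensional k V]

theorem thirteen_le {m : ℕ} (hm : 1 ≤ m) (hK : Fintype.card K = 3 ^ (2 * m + 1)) {c : ℕ} (hc : 2 ≤ c)
    (hc3 : ¬ 3 ∣ c) (hcq : c ≤ Fintype.card K - 1) (f : K → K → K → Module.Dual k V) (w : K → K → K → V)
    (h : ∀ t u v t' u' v', f t u v (w t' u' v') = j (ker (3 ^ m) t u v t' u' v') ^ c) :
    13 ≤ Module.finrank k V := by
  have h27 : 27 ≤ 3 ^ (2 * m + 1) := by
    calc 27 = 3 ^ 3 := by norm_num
      _ ≤ 3 ^ (2 * m + 1) := Nat.pow_le_pow_right (by norm_num) (by omega)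
  have : CharP K 3 := charP_of_card_eq_prime_pow hK
  have : CharP k 3 := charP_of_injective_ringHom j.injective 3
  have hcq' : c < 3 ^ (2 * m + 1) := by omega
  have huv : ∀ u V y, f 0 u (V ^ (3 ^ m * 3)) (w 0 y 0) =
      j ((1 - u * y) ^ (1 + 3 ^ m) + V ^ 2 * y ^ (1 + 3 ^ m)) ^ c := by
    intro u V y
    rw [h, ker_uv']
    rw [show 3 ^ m * 3 ^ m * 3 = Fintype.card K by rw [hK]; ring]
    exact FiniteField.pow_card V
  by_cases hall : ∀ p < 2 * m + 1, dg c p ≠ 0
  · -- no digit vanishes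
    have hC : ¬ 3 ∣ c.choose (H (2 * m + 1)) := (choose_ne hcq' (H_lt _)).2 fun i hi => by
      rw [dg_H hi]
      exact Nat.one_le_iff_ne_zero.2 (hall i hi)
    have hHc : H (2 * m + 1) ≤ c := by
      by_contra hcon
      apply hC
      rw [Nat.choose_eq_zero_of_lt (by omega)]
      exact dvd_zero _
    have hH2 := two_H (2 * m + 1)
    have hred : red (Fintype.card K) ((1 + 3 ^ m) * (c - (c - H (2 * m + 1)))) = 3 ^ (2 * m + 1) - 1 := by
      rw [hK, Nat.sub_sub_self hHc]
      have h1 : 2 * H (2 * m + 1) = 3 ^ (2 * m + 1) - 1 := by omega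
      have h2 : (1 + 3 ^ m) * H (2 * m + 1) = (3 ^ (2 * m + 1) - 1) * (1 + H m) := by
        rw [← h1, ← two_H m]; ring
      rw [h2, red_congr (m := 3 ^ (2 * m + 1) - 1) _ (by omega), red_eq le_rfl]
      · exact (Nat.modEq_zero_iff_dvd.2 (Dvd.intro _ rfl)).trans (Nat.modEq_zero_iff_dvd.2 (dvd_refl _)).symm
      · exact Nat.mul_ne_zero (by omega) (by omega)
    have hex : ∀ i : Fin 13, ∃ G : Module.Dual k V, ∀ y, G (w 0 y 0) = (c.choose (c - H (2 * m + 1)) : k) *
        j y ^ ((1 + 3 ^ m) * (c - H (2 * m + 1)) + ((i : ℕ) + 1)) := by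
      intro i
      refine exists_fun j (fun u V => f 0 u (V ^ (3 ^ m * 3))) (fun y => w 0 y 0) huv
        (Nat.sub_le _ _) ?_ ?_
      · rw [hred, mem_SS']
        have := i.2
        refine (choose_ne (n := 2 * m + 1) (by omega) (by omega)).2 fun l hl => ?_
        rw [dg_pred hl]
        have := dg_lt ((i : ℕ) + 1) l
        omega
      · intro d hd _ hcol
        rw [hK] at hcol
        rcases collision (by omega) hHc hd hcol with h1 | h1
        · exact Or.inl h1
        · exact Or.inr ⟨h1, by omega⟩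
    choose G hG using hex
    have h1 := le_of_powers j G (fun y => w 0 y 0) (fun _ => (c.choose (c - H (2 * m + 1)) : k))
      (fun i => (1 + 3 ^ m) * (c - H (2 * m + 1)) + ((i : ℕ) + 1)) (fun _ => by
        rw [Nat.choose_symm hHc]
        intro h2
        exact hC ((CharP.cast_eq_zero_iff k 3 _).1 h2)) hG (by
        intro i l hil
        rw [hK] at hil
        have := i.2
        have := l.2
        have h2 := inj_aux (by omega) (by omega) hil
        exact Fin.ext (by omega))
    rwa [Fintype.card_fin] at h1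
  · push Not at hall
    obtain ⟨p, hp, hcp⟩ := hall
    by_cases hl : ∀ l, 1 ≤ l → l < 2 * m + 1 → dg c l = 0
    · have h1 := eq_dg_zero (by omega) hcq' hl
      have h2 := dg_lt c 0
      have h3 : c = 2 := by omega
      subst h3
      exact t_two j hm hK (fun t => f t 0 0) (fun t => w t 0 0) fun t t' => h t 0 0 t' 0 0
    · push Not at hl
      obtain ⟨l, hl1, hl2, hcl⟩ := hl
      have h3l : 3 ^ (l + 1) ≤ 3 ^ (2 * m + 1) := Nat.pow_le_pow_right (by norm_num) hl2
      have h3l' : 3 ^ 1 ≤ 3 ^ l := Nat.pow_le_pow_right (by norm_num) hl1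
      rw [pow_succ] at h3l
      have hC : ¬ 3 ∣ c.choose (1 + 3 ^ l) := (choose_ne hcq' (by omega)).2 fun i hi => by
        rw [dg_one_add (by omega)]
        split_ifs with h1
        · rcases h1 with rfl | rfl
          · exact Nat.one_le_iff_ne_zero.2 (dg_zero_ne hc3)
          · exact Nat.one_le_iff_ne_zero.2 hcl
        · exact Nat.zero_le _
      have hcc : 1 + 3 ^ l ≤ c := by
        by_contra hcon
        apply hC
        rw [Nat.choose_eq_zero_of_lt (by omega)]
        exact dvd_zero _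
      obtain ⟨hR, h12, h13⟩ := red_case hm hl1 hl2
      have hex : ∀ κ : SS 3 (red (3 ^ (2 * m + 1)) ((1 + 3 ^ m) * (1 + 3 ^ l))), ∃ G : Module.Dual k V,
          ∀ y, G (w 0 y 0) = (c.choose (c - (1 + 3 ^ l)) : k) *
            j y ^ ((1 + 3 ^ m) * (c - (1 + 3 ^ l)) + (κ : ℕ)) := by
        intro κ
        refine exists_fun j (fun u V => f 0 u (V ^ (3 ^ m * 3))) (fun y => w 0 y 0) huv
          (Nat.sub_le _ _) ?_ ?_
        · rw [hK, Nat.sub_sub_self hcc]
          exact κ.2
        · intro d hd hCd hcol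
          rw [hK] at hcol
          exact Or.inl (no_collision hcq' hp hcp hd (Nat.sub_le _ _) hCd
            (by rwa [Nat.choose_symm hcc]) hcol)
      choose G hG using hex
      have hκ : ∀ κ : SS 3 (red (3 ^ (2 * m + 1)) ((1 + 3 ^ m) * (1 + 3 ^ l))), (κ : ℕ) < 3 ^ (2 * m + 1) - 1 :=
        fun κ => lt_of_le_of_lt (mem_SS.1 κ.2).1 hR
      have hCk : (c.choose (c - (1 + 3 ^ l)) : k) ≠ 0 := by
        rw [Nat.choose_symm hcc]
        intro h2
        exact hC ((CharP.cast_eq_zero_iff k 3 _).1 h2)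
      by_cases hδ : c - (1 + 3 ^ l) = 0
      · by_cases hlm : l = m
        · subst hlm
          refine t_succ (j.comp (iterateFrobenius K 3 l)) hm hK (fun t => f t 0 0) (fun t => w t 0 0) fun t t' => ?_
          rw [h, RingHom.comp_apply, iterateFrobenius_def, show c = 1 + 3 ^ l by omega]
          generalize ker (3 ^ l) t 0 0 t' 0 0 = x
          have hx : x ^ 3 ^ (2 * l + 1) = x := by
            rw [← hK, FiniteField.pow_card]
          rw [← map_pow, ← map_pow]
          congr 1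
          rw [pow_add, pow_add, pow_one, pow_one, ← pow_mul, ← pow_add 3, show l + (l + 1) = 2 * l + 1 by ring, hx,
            mul_comm]
        · by_cases hlm1 : l = m + 1
          · subst hlm1
            refine t_succ j hm hK (fun t => f t 0 0) (fun t => w t 0 0) fun t t' => ?_
            rw [h, show c = 1 + 3 ^ (m + 1) by omega]
          · refine (h13 hlm hlm1).trans ?_
            rw [← Fintype.card_coe]
            exact le_of_powers j G (fun y => w 0 y 0) (fun _ => (c.choose (c - (1 + 3 ^ l)) : k))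
              (fun κ => (1 + 3 ^ m) * (c - (1 + 3 ^ l)) + (κ : ℕ)) (fun _ => hCk) hG (by
              intro i l hil
              rw [hK] at hil
              exact Subtype.ext (inj_aux (hκ i) (hκ l) hil))
      · have h1 := le_of_powers j (ι := Option (SS 3 (red (3 ^ (2 * m + 1)) ((1 + 3 ^ m) * (1 + 3 ^ l)))))
          (fun o => o.elim (f 0 0 (0 ^ (3 ^ m * 3))) G) (fun y => w 0 y 0)
          (fun o => o.elim 1 fun _ => (c.choose (c - (1 + 3 ^ l)) : k))
          (fun o => o.elim 0 fun κ => (1 + 3 ^ m) * (c - (1 + 3 ^ l)) + (κ : ℕ)) (by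
            rintro (_ | κ)
            · exact one_ne_zero
            · exact hCk) (by
            rintro (_ | κ) y
            · change f 0 0 (0 ^ (3 ^ m * 3)) (w 0 y 0) = 1 * j y ^ 0
              rw [huv]
              simp
            · exact hG κ y) (by
            rintro (_ | κ) (_ | κ') hil
            · rfl
            · exfalso
              change red _ 0 = red _ ((1 + 3 ^ m) * (c - (1 + 3 ^ l)) + (κ' : ℕ)) at hil
              rw [red_zero] at hil
              refine red_ne_zero ?_ hil.symm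
              have : 0 < (1 + 3 ^ m) * (c - (1 + 3 ^ l)) := by (clear * - hδ; positivity)
              omega
            · exfalso
              change red _ ((1 + 3 ^ m) * (c - (1 + 3 ^ l)) + (κ : ℕ)) = red _ 0 at hil
              rw [red_zero] at hil
              refine red_ne_zero ?_ hil
              have : 0 < (1 + 3 ^ m) * (c - (1 + 3 ^ l)) := by (clear * - hδ; positivity)
              omega
            · change red _ ((1 + 3 ^ m) * (c - (1 + 3 ^ l)) + (κ : ℕ)) =
                red _ ((1 + 3 ^ m) * (c - (1 + 3 ^ l)) + (κ' : ℕ)) at hil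
              rw [hK] at hil
              rw [Subtype.ext (inj_aux (hκ κ) (hκ κ') hil)])
        rw [Fintype.card_option, Fintype.card_coe] at h1
        omega

/-- **The exponents for the Ree groups in dimension at most 12.** -/
theorem ree_bound {m : ℕ} (hm : 1 ≤ m) (hK : Fintype.card K = 3 ^ (2 * m + 1)) {c : ℕ} (hc1 : 1 ≤ c)
    (hc2 : c ≤ Fintype.card K - 1) (f : K → K → K → Module.Dual k V) (w : K → K → K → V)
    (h : ∀ t u v t' u' v', f t u v (w t' u' v') = j (ker (3 ^ m) t u v t' u' v') ^ c)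
    (hd : Module.finrank k V ≤ 12) : ∃ i, c = 3 ^ i := by
  obtain ⟨i, c₁, hc₁, hcc⟩ := Nat.exists_eq_pow_mul_and_not_dvd (show c ≠ 0 by omega) 3 (by norm_num)
  refine ⟨i, ?_⟩
  by_contra hne
  have : CharP K 3 := charP_of_card_eq_prime_pow hK
  have h0 : c₁ ≠ 0 := by
    rintro rfl
    exact hc₁ (dvd_zero 3)
  have h1 : c₁ ≠ 1 := by
    rintro rfl
    rw [mul_one] at hcc
    exact hne hcc
  have h2 : c₁ ≤ c := by
    rw [hcc]
    exact Nat.le_mul_of_pos_left _ (pow_pos (by norm_num) i)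
  have h3 := thirteen_le (j.comp (iterateFrobenius K 3 i)) hm hK (c := c₁) (by omega) hc₁ (by omega) f w (by
    intro t u v t' u' v'
    rw [h, RingHom.comp_apply, iterateFrobenius_def, map_pow, ← pow_mul, ← hcc])
  omega

end main

end Cfsg.Agent.H909.ReeKer
end

private theorem dce_ae2ff9bb8468 : _root_.True := by
  try have : _root_.True := by simp only [_root_.Cfsg.Agent.H909.ReeKer.B2.eq_1]
  try have : _root_.True := by simp only [_root_.Cfsg.Agent.H909.ReeKer.H.eq_1]
  try have : _root_.True := by simp only [_root_.Cfsg.Agent.H909.ReeKer.dg.eq_1]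
  try have : _root_.True := by simp only [_root_.Cfsg.Agent.H909.ReeKer.B18.eq_1]
  try have : _root_.True := by simp only [_root_.Cfsg.Agent.H909.ReeKer.H.eq_def]
  try have : _root_.True := by simp only [_root_.Cfsg.Agent.H141.ReeK.fcol.eq_1]
  try have : _root_.True := by simp only [_root_.Cfsg.Agent.H141.ReeK.frow.eq_1]
  try have : _root_.True := by simp only [_root_.Cfsg.Agent.H141.ReeK.ker.eq_1]
  try have : _root_.True := by simp only [_root_.Cfsg.Agent.H909.ReeKer.A18.eq_1]
  try have : _root_.True := by simp only [_root_.Cfsg.Agent.H909.ReeKer.H.eq_2]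
  try have : _root_.True := by simp only [_root_.Cfsg.Agent.H909.ReeKer.A2.eq_1]
  exact _root_.True.intro
end

-- part: H141/ReeK/Core
section
prune_inst 0x4001000008000000000000060001c4282000002004880000000020006c08c4200000820b0300010002280044038004811000000020000000000000001180080000006040000a008000000000000000000000000000000000000000000000000000000000
set_option linter.all false
open scoped Cfsg.Agent.FastGrp

-- part: H141/ReeK/Rep
section
/-!
# The irreducible representations of the Ree groups in characteristic three: matrix coefficients (helper141)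

`K` a field with `3 ^ (2 m + 1)` elements, `k` algebraically closed of characteristic three, `j : K → k`, `ρ` an
irreducible representation of `²G₂(K)` over `k` of dimension at least two.

* **`exists_coef`** : `c`, `φ`, `r` with `φ (ρ(g) c) = j(B(g)₆₆) ^ r`, `1 ≤ r ≤ |K| - 1`;
* **`coef_ker`** : the kernel.
-/

set_option autoImplicit false
set_option linter.unusedSectionVars false
set_option linter.style.haveILetI false

namespace Cfsg.Agent.H141.ReeK

open Cfsg.Lie Cfsg.Agent.ChevalleyStructure.Ree Cfsg.Agent.ChevalleyStructure.Ree.Words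
  Cfsg.Agent.ChevalleyStructure.Ree.Gens Cfsg.Agent.ChevalleyStructure.Ree.Normal
  Cfsg.Agent.ChevalleyStructure.Ree.Bruhat
  Cfsg.Agent.LieRecognition.ReeSylowThree Cfsg.Agent.FixBN.ReeSplit Cfsg.Agent.H905.Md

/-- characters of the multiplicative group of a finite field (helper991) -/
theorem exists_exp {K k : Type*} [Field K] [Fintype K] [Field k] (j : K →+* k) (a : Kˣ →* kˣ) :
    ∃ e, 1 ≤ e ∧ e ≤ Fintype.card K - 1 ∧ ∀ s : Kˣ, (a s : k) = j s ^ e := by
  classical
  obtain ⟨ζ, hζ⟩ := IsCyclic.exists_generator (α := Kˣ)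
  have hord : orderOf ζ = Fintype.card K - 1 := by
    rw [orderOf_eq_card_of_forall_mem_zpowers hζ, Nat.card_eq_fintype_card, Fintype.card_units]
  have hpos : 0 < Fintype.card K - 1 := by
    rw [← hord]; exact orderOf_pos ζ
  have hprim : IsPrimitiveRoot (j (ζ : K)) (Fintype.card K - 1) := by
    rw [← hord, ← orderOf_units]
    exact (IsPrimitiveRoot.orderOf (ζ : K)).map_of_injective j.injective
  have h1 : (a ζ : k) ^ (Fintype.card K - 1) = 1 := by
    rw [← hord, ← Units.val_pow_eq_pow_val, ← map_pow, pow_orderOf_eq_one, map_one, Units.val_one]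
  have : NeZero (Fintype.card K - 1) := ⟨hpos.ne'⟩
  obtain ⟨e, he, h2⟩ := hprim.eq_pow_of_pow_eq_one h1
  have h3 : ∀ s : Kˣ, (a s : k) = j s ^ e := by
    intro s
    obtain ⟨m, hm⟩ := (mem_powers_iff_mem_zpowers.2 (hζ s) : s ∈ Submonoid.powers ζ)
    have hm' : ζ ^ m = s := hm
    rw [← hm', map_pow, Units.val_pow_eq_pow_val, Units.val_pow_eq_pow_val, map_pow, ← h2, ← pow_mul, ← pow_mul,
      mul_comm]
  rcases Nat.eq_zero_or_pos e with rfl | h4
  · refine ⟨Fintype.card K - 1, by omega, le_rfl, fun s => ?_⟩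
    rw [h3, pow_zero, ← map_pow, FiniteField.pow_card_sub_one_eq_one _ (Units.ne_zero s), map_one]
  · exact ⟨e, h4, by omega, h3⟩

section torus

variable {K : Type*} [Field K] {θ : K →+* K} {e : ℕ} (c : Ctx θ e)

/-- the torus parameter as a unit -/
def ddU (α : Kˣ) : Kˣ := Units.mk0 (c.dd α) (c.dd_ne α)

/-- the inverse of the torus parameter -/
def ddInv (e : ℕ) : Kˣ →* Kˣ where
  toFun δ := δ ^ 2 * (δ ^ (3 * e))⁻¹
  map_one' := by rw [one_pow, one_pow, inv_one, mul_one]
  map_mul' a b := by rw [mul_pow, mul_pow, mul_inv, mul_mul_mul_comm]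

theorem ddInv_ddU (α : Kˣ) : ddInv e (ddU c α) = α := by
  apply Units.ext
  have hφ : phi θ c.h3 (α : K) ≠ 0 := by
    rw [c.phi_pow]; exact pow_ne_zero _ α.ne_zero
  change ((ddU c α : Kˣ) : K) ^ 2 * (((ddU c α ^ (3 * e))⁻¹ : Kˣ) : K) = α
  rw [Units.val_inv_eq_inv_val, Units.val_pow_eq_pow_val]
  change (c.dd α) ^ 2 * ((c.dd α) ^ (3 * e))⁻¹ = α
  rw [← c.phi_pow (c.dd α)]
  unfold Ctx.dd
  rw [map_mul, map_pow, c.phi_phi]
  have hα : (α : K) ≠ 0 := α.ne_zero
  field_simp

theorem dd_inv (α : Kˣ) : c.dd α⁻¹ = (c.dd α)⁻¹ := by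
  unfold Ctx.dd
  rw [Units.val_inv_eq_inv_val, map_inv₀, inv_pow, mul_inv]

end torus

section coef

variable {K : Type*} [Field K] [Fintype K] {m : ℕ} {θ : K →+* K} (c : Ctx θ (3 ^ m))
  {k V : Type*} [Field k] [CharP k 3] [AddCommGroup V] [Module k V]
  {ρ : ↥(twistedG2 K (3 ^ m)) →* Module.End k V}

/-- the 7-dimensional representation -/
def BB (g : ↥(twistedG2 K (3 ^ m))) : Matrix (Fin 7) (Fin 7) K := B (g : GL chevG2.Idx K)

include c in
theorem BB_mul (g h : ↥(twistedG2 K (3 ^ m))) : BB (g * h) = BB g * BB h := c.B_mul h.2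

/-- the character of the torus -/
theorem exists_chi_exp (j : K →+* k) {χ : ↥(twistedG2 K (3 ^ m)) → k} {v : V} (hv0 : v ≠ 0)
    (hχ : ∀ t ∈ hSub (Data.data c), ρ t v = χ t • v) :
    ∃ r, 1 ≤ r ∧ r ≤ Fintype.card K - 1 ∧ ∀ α : Kˣ, χ (Data.T c α) = j (c.dd α) ^ r := by
  have hχT : ∀ α : Kˣ, ρ (Data.T c α) v = χ (Data.T c α) • v := fun α => hχ _ ⟨α, rfl⟩
  let f : Kˣ →* k :=
    { toFun := fun a => χ (Data.T c a)
      map_one' := by
        have h1 := hχT 1
        rw [(Data.data c).h_one, map_one] at h1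
        refine (smul_left_injective k hv0 ?_).symm
        change (1 : k) • v = χ (Data.T c 1) • v
        rw [(Data.data c).h_one, ← h1, one_smul]
        rfl
      map_mul' := fun a b => by
        refine smul_left_injective k hv0 ?_
        change χ (Data.T c (a * b)) • v = (χ (Data.T c a) * χ (Data.T c b)) • v
        rw [← hχT, (Data.data c).h_mul, map_mul]
        change ρ (Data.T c a) (ρ (Data.T c b) v) = _
        rw [hχT b, map_smul, hχT a, smul_smul, mul_comm] }
  obtain ⟨r, h1, h2, h3⟩ := exists_exp j (f.toHomUnits.comp (ddInv (3 ^ m)))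
  refine ⟨r, h1, h2, fun α => ?_⟩
  have h4 := h3 (ddU c α)
  rw [MonoidHom.comp_apply, ddInv_ddU] at h4
  exact h4

/-- **The matrix coefficient.** -/
theorem coef (j : K →+* k) {χ : ↥(twistedG2 K (3 ^ m)) → k} {v : V} {φ : Module.Dual k V} {r : ℕ}
    (hr : 1 ≤ r) (hU : ∀ u ∈ uSub (Data.data c), ρ u v = v) (hχ : ∀ t ∈ hSub (Data.data c), ρ t v = χ t • v)
    (hφ : ∀ u ∈ uSub (Data.data c), ∀ x, φ (ρ (Data.N c * u * (Data.N c)⁻¹) x) = φ x)
    (hw : φ (ρ (Data.N c) v) = 0) (hχr : ∀ α : Kˣ, χ (Data.T c α) = j (c.dd α) ^ r)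
    (g : ↥(twistedG2 K (3 ^ m))) : φ (ρ g v) = φ v * j (BB g 6 6) ^ r := by
  have hm : ∀ a b x, ρ (a * b) x = ρ a (ρ b x) := fun a b x => by rw [map_mul]; rfl
  have hnn : Data.N c * Data.N c = 1 := (Data.data c).n_n
  have hg : g = Data.N c * (Data.N c * g) := by rw [← mul_assoc, hnn, one_mul]
  rcases (Data.data c).bruhat (Data.N c * g) with ⟨t, u, w, α, h⟩ | ⟨t, u, w, α, t', u', w', h⟩
  · have h1 : Data.U K (3 ^ m) t u w * Data.T c α = Data.T c α * ((Data.T c α)⁻¹ * Data.U K (3 ^ m) t u w * Data.T c α) := by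
      group
    have h2 : (Data.T c α)⁻¹ * Data.U K (3 ^ m) t u w * Data.T c α ∈ uSub (Data.data c) := by
      have h3 := h_conj_mem (Data.data c) α⁻¹ (x := Data.U K (3 ^ m) t u w) ⟨t, u, w, rfl⟩
      rwa [(Data.data c).h_inv, inv_inv] at h3
    have h4 : BB g 6 6 = 0 := by
      rw [hg, h]
      change B (nU K * (wU (3 ^ m) t u w * tU (3 ^ m) α)) 6 6 = 0
      rw [c.B_n_mul (mul_mem (wU_mem _ _ _ _) (c.torus α)), c.B_wt6]
      change -(B (wU (3 ^ m) t u w) 0 6 * c.dd α) = 0
      rw [c.B_low t u w 0 6 (by decide), zero_mul, neg_zero]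
    rw [h4, map_zero, zero_pow (by omega), mul_zero, hg, h, h1, hm, hm, hU _ h2, hχ _ ⟨α, rfl⟩, map_smul, map_smul, hw,
      smul_zero]
  · have h4 : BB g 6 6 = c.dd α⁻¹ := by
      rw [hg, h]
      change B (nU K * (wU (3 ^ m) t u w * tU (3 ^ m) α * nU K * wU (3 ^ m) t' u' w')) 6 6 = _
      rw [c.B_n_mul (mul_mem (mul_mem (mul_mem (wU_mem _ _ _ _) (c.torus α)) c.nU_mem) (wU_mem _ _ _ _)), c.B_wtnw]
      change - -(B (wU (3 ^ m) t u w) 0 0 * (c.dd α)⁻¹) = _
      rw [c.B_diag, one_mul, neg_neg, dd_inv]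
    have h5 : g = (Data.N c * Data.U K (3 ^ m) t u w * (Data.N c)⁻¹) * (Data.T c α⁻¹ * Data.U K (3 ^ m) t' u' w') := by
      have h6 := (Data.data c).n_h α
      have h7 : Data.T c α⁻¹ = Data.N c * Data.T c α * (Data.N c)⁻¹ := by rw [h6, mul_inv_cancel_right]
      have h8 : (Data.N c)⁻¹ = Data.N c := (Data.data c).n_inv
      rw [h7]
      rw [hg, h]
      have h9 : (Data.N c * Data.U K (3 ^ m) t u w * (Data.N c)⁻¹) * (Data.N c * Data.T c α * (Data.N c)⁻¹ *
          Data.U K (3 ^ m) t' u' w') = Data.N c * (Data.U K (3 ^ m) t u w * Data.T c α * (Data.N c)⁻¹ *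
          Data.U K (3 ^ m) t' u' w') := by group
      rw [h9, h8]
    rw [h4, h5, hm, hφ _ ⟨t, u, w, rfl⟩, hm, hU _ ⟨t', u', w', rfl⟩, hχ _ ⟨α⁻¹, rfl⟩, map_smul, smul_eq_mul, hχr, mul_comm]

include c in
/-- **The matrix coefficient of the highest weight.** -/
theorem exists_coef [IsAlgClosed k] [FiniteDimensional k V] (hK : Fintype.card K = 3 ^ (2 * m + 1)) (j : K →+* k)
    (hirr : ∀ L : Submodule k V, (∀ g, ∀ v ∈ L, ρ g v ∈ L) → L = ⊥ ∨ L = ⊤) (h2 : 2 ≤ Module.finrank k V) :
    ∃ (v : V) (φ : Module.Dual k V) (r : ℕ), 1 ≤ r ∧ r ≤ Fintype.card K - 1 ∧ φ v ≠ 0 ∧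
      ∀ g, φ (ρ g v) = φ v * j (BB g 6 6) ^ r := by
  haveI : Fact (Nat.Prime 3) := ⟨Nat.prime_three⟩
  haveI : Finite ↥(twistedG2 K (3 ^ m)) := finite (Data.data c)
  obtain ⟨v, χ, φ, hU, hχ, hφ, hφc, hw⟩ := H861.SzN.exists_hw (ree_sp1 hK (Data.data c)) (reeT_comm (Data.data c)) hirr h2
  have hv0 : v ≠ 0 := by
    rintro rfl
    exact hφc (map_zero _)
  obtain ⟨r, hr1, hr2, hr⟩ := exists_chi_exp c j hv0 hχ
  exact ⟨v, φ, r, hr1, hr2, hφc, coef c j hr1 hU hχ hφ hw hr⟩

/-- **The matrix coefficient of the highest weight**, with the torus and the unipotent elements. -/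
theorem exists_coef' [IsAlgClosed k] [FiniteDimensional k V] (hK : Fintype.card K = 3 ^ (2 * m + 1)) (j : K →+* k)
    (hirr : ∀ L : Submodule k V, (∀ g, ∀ v ∈ L, ρ g v ∈ L) → L = ⊥ ∨ L = ⊤) (h2 : 2 ≤ Module.finrank k V) :
    ∃ (v : V) (φ : Module.Dual k V) (r : ℕ), 1 ≤ r ∧ r ≤ Fintype.card K - 1 ∧ φ v = 1 ∧
      (∀ t u w, ρ (Data.U K (3 ^ m) t u w) v = v) ∧ (∀ α : Kˣ, ρ (Data.T c α) v = j (c.dd α) ^ r • v) ∧
      (∀ t u w x, φ (ρ (Data.N c * Data.U K (3 ^ m) t u w * Data.N c) x) = φ x) ∧ φ (ρ (Data.N c) v) = 0 ∧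
      ∀ g, φ (ρ g v) = j (BB g 6 6) ^ r := by
  haveI : Fact (Nat.Prime 3) := ⟨Nat.prime_three⟩
  haveI : Finite ↥(twistedG2 K (3 ^ m)) := finite (Data.data c)
  obtain ⟨v, χ, φ, hU, hχ, hφ, hφc, hw⟩ := H861.SzN.exists_hw (ree_sp1 hK (Data.data c)) (reeT_comm (Data.data c)) hirr h2
  have hv0 : v ≠ 0 := by
    rintro rfl
    exact hφc (map_zero _)
  obtain ⟨r, hr1, hr2, hr⟩ := exists_chi_exp c j hv0 hχ
  have hco := coef c j hr1 hU hχ hφ hw hr
  refine ⟨v, (φ v)⁻¹ • φ, r, hr1, hr2, inv_mul_cancel₀ hφc, fun t u w => hU _ ⟨t, u, w, rfl⟩, fun α => ?_,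
    fun t u w x => ?_, ?_, fun g => ?_⟩
  · rw [← hr]
    exact hχ _ ⟨α, rfl⟩
  · have h1 := hφ _ ⟨t, u, w, rfl⟩ x
    rw [(Data.data c).n_inv] at h1
    change (φ v)⁻¹ * φ _ = (φ v)⁻¹ * φ _
    rw [h1]
  · change (φ v)⁻¹ * φ _ = 0
    rw [hw, mul_zero]
  · change (φ v)⁻¹ * φ _ = _
    rw [hco, inv_mul_cancel_left₀ hφc]

include c in
/-- the row of `U(t,u,v)` -/
theorem BB_row (t u v : K) (i : Fin 7) : BB (Data.U K (3 ^ m) t u v) 6 i = frow (3 ^ m) t u v i := B_row c t u v i

/-- the last column of `n U(t,u,v) n` -/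
theorem BB_col (t u v : K) (i : Fin 7) :
    BB (Data.N c * Data.U K (3 ^ m) t u v * Data.N c) i 6 = fcol (3 ^ m) t u v i.rev := by
  change B (nU K * wU (3 ^ m) t u v * nU K) i 6 = _
  rw [c.B_mul_n, c.B_n_mul (wU_mem _ _ _ _), neg_neg]
  exact B_col c t u v i.rev

/-- **The kernel.** -/
theorem BB_ker (t u v t' u' v' : K) :
    BB (Data.U K (3 ^ m) t u v * (Data.N c * Data.U K (3 ^ m) t' u' v' * Data.N c)) 6 6 =
      ker (3 ^ m) t u v t' u' v' := by
  rw [BB_mul c, Matrix.mul_apply]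
  unfold ker
  refine Finset.sum_congr rfl fun i _ => ?_
  rw [BB_row c, BB_col c]

end coef

end Cfsg.Agent.H141.ReeK
end

-- part: H141/ReeK/Model
section
/-!
# The 7-dimensional modules of the Ree groups in characteristic three (helper141)

`ρ` irreducible with highest weight coefficient `φ (ρ(g) v) = φ(v) τ(B(g)₆₆)`, `τ : K → k` a ring homomorphism.

* **`exists_model`** : `Ψ : V ≃ k⁷` with `Ψ (ρ(g) x) = τ(B g) Ψ(x)`.
-/

set_option autoImplicit false
set_option linter.unusedSectionVars false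
set_option linter.style.haveILetI false

namespace Cfsg.Agent.H141.ReeK

open Cfsg.Lie Cfsg.Agent.ChevalleyStructure.Ree Cfsg.Agent.ChevalleyStructure.Ree.Words
  Cfsg.Agent.ChevalleyStructure.Ree.Gens Cfsg.Agent.ChevalleyStructure.Ree.Normal
  Cfsg.Agent.ChevalleyStructure.Ree.Bruhat
  Cfsg.Agent.LieRecognition.ReeSylowThree Cfsg.Agent.FixBN.ReeSplit Cfsg.Agent.H905.Md

section model

variable {K : Type*} [Field K] [Fintype K] {m : ℕ} {θ : K →+* K} (c : Ctx θ (3 ^ m))
  {k V : Type*} [Field k] [CharP k 3] [AddCommGroup V] [Module k V]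
  {ρ : ↥(twistedG2 K (3 ^ m)) →* Module.End k V}

theorem BB_N (i e : Fin 7) : BB (Data.N c) i e = if i.val + e.val = 6 then -1 else 0 := Ctx.B_nU i e

theorem three_k : (3 : k) = 0 := by exact_mod_cast CharP.cast_eq_zero k 3

include c in
theorem row_indep (τ : K →+* k) (a : Fin 7 → k)
    (h : ∀ g : ↥(twistedG2 K (3 ^ m)), ∑ e, a e * τ (BB g 6 e) = 0) : a = 0 := by
  have h3 : (3 : k) = 0 := three_k
  have ho : Odd (3 ^ m) := Odd.pow (by decide)
  have hz : 3 ^ m ≠ 0 := by positivity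
  have hU : ∀ t u v : K, ∑ e, a e * τ (frow (3 ^ m) t u v e) = 0 := by
    intro t u v
    rw [← h (Data.U K (3 ^ m) t u v)]
    exact Finset.sum_congr rfl fun e _ => by rw [BB_row c]
  have hN := h (Data.N c)
  have h000 := hU 0 0 0
  have h001 := hU 0 0 1
  have h010 := hU 0 1 0
  have h100 := hU 1 0 0
  have hm00 := hU (-1) 0 0
  have h011 := hU 0 1 1
  simp only [BB_N, Fin.sum_univ_seven] at hN
  simp only [frow, Fin.sum_univ_seven, Matrix.cons_val_zero, Matrix.cons_val_one, Matrix.cons_val] at h000 h001 h010 h100 hm00 h011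
  simp only [zero_pow hz, ho.neg_one_pow, _root_.Fin.isValue, _root_.Fin.coe_ofNat_eq_mod, _root_.Nat.mod_succ, _root_.Nat.zero_mod, _root_.add_zero, ↓ _root_.reduceIte, _root_.map_neg, _root_.map_one, _root_.mul_neg, _root_.mul_one, _root_.Nat.one_mod, _root_.Nat.reduceAdd, _root_.Nat.succ_ne_self, _root_.map_zero, _root_.MulZeroClass.mul_zero, _root_.Nat.reduceMod, _root_.Nat.reduceEqDiff, _root_.neg_eq_zero, _root_.ne_eq, _root_.OfNat.ofNat_ne_zero, _root_.not_false_eq_true, _root_.zero_pow, _root_.neg_zero, _root_.sub_self, _root_.zero_add, _root_.one_pow, _root_.sub_zero, _root_.zero_sub, _root_.neg_mul, _root_.one_mul, _root_.even_two, _root_.Even.neg_pow, _root_.map_pow, _root_.sub_neg_eq_add, _root_.map_sub] at hN h000 h001 h010 h100 hm00 h011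
  have a3 : a 3 = -a 1 := by linear_combination -h001 - hN + h000
  have a4 : a 4 = -a 2 := by linear_combination -h010 - hN + h000
  have a5 : a 5 = a 1 + a 2 := by linear_combination h100 - hN - h000
  have a2 : a 2 = 0 := by linear_combination hm00 - hN - h000 + a5 + a 2 * h3
  have a1 : a 1 = 0 := by linear_combination -h011 - 2 * hN + h000 - a2 - a3 - a4 + a2
  funext e
  fin_cases e
  · exact hN
  · exact a1
  · exact a2
  · exact a3.trans (by rw [a1, neg_zero]; rfl)
  · exact a4.trans (by rw [a2, neg_zero]; rfl)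
  · exact a5.trans (by rw [a1, a2, add_zero]; rfl)
  · exact h000

include c in
theorem col_indep (τ : K →+* k) (a : Fin 7 → k)
    (h : ∀ g : ↥(twistedG2 K (3 ^ m)), ∑ e, a e * τ (BB g e 6) = 0) : a = 0 := by
  have h3 : (3 : k) = 0 := three_k
  have ho : Odd (3 ^ m) := Odd.pow (by decide)
  have hz : 3 ^ m ≠ 0 := by positivity
  have hU : ∀ t u v : K, ∑ e : Fin 7, a e * τ (fcol (3 ^ m) t u v e.rev) = 0 := by
    intro t u v
    rw [← h (Data.N c * Data.U K (3 ^ m) t u v * Data.N c)]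
    exact Finset.sum_congr rfl fun e _ => by rw [BB_col c]
  have hN := h (Data.N c)
  have h000 := hU 0 0 0
  have h001 := hU 0 0 1
  have h010 := hU 0 1 0
  have h100 := hU 1 0 0
  have h110 := hU 1 1 0
  have h011 := hU 0 1 1
  simp only [BB_N, Fin.sum_univ_seven] at hN
  simp only [fcol, Fin.sum_univ_seven, Fin.rev] at h000 h001 h010 h100 h110 h011
  simp only [zero_pow hz, _root_.Fin.isValue, _root_.Fin.coe_ofNat_eq_mod, _root_.Nat.zero_mod, _root_.Nat.mod_succ, _root_.zero_add, ↓ _root_.reduceIte, _root_.map_neg, _root_.map_one, _root_.mul_neg, _root_.mul_one, _root_.Nat.one_mod, _root_.Nat.reduceAdd, _root_.Nat.succ_ne_self, _root_.map_zero, _root_.MulZeroClass.mul_zero, _root_.add_zero, _root_.Nat.reduceMod, _root_.Nat.reduceEqDiff, _root_.neg_eq_zero, _root_.neg_zero, _root_.sub_self, _root_.ne_eq, _root_.OfNat.ofNat_ne_zero, _root_.not_false_eq_true, _root_.zero_pow, _root_.Nat.add_one_sub_one, _root_.Fin.reduceFinMk, _root_.Matrix.cons_val, _root_.Nat.reduceSub,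 _root_.Fin.mk_one, _root_.Matrix.cons_val_one, _root_.Matrix.cons_val_zero, _root_.tsub_self, _root_.Fin.zero_eta, _root_.one_pow, _root_.sub_zero, _root_.zero_sub, _root_.sub_add_cancel, _root_.map_add, _root_.map_sub] at hN h000 h001 h010 h100 h110 h011
  have a3 : a 3 = 0 := by linear_combination h010 - h011 - hN
  have a1 : a 1 = 0 := by linear_combination h001 + hN - h000 + a3
  have a4 : a 4 = -a 2 := by linear_combination h010 + hN - h000
  have a5 : a 5 = 0 := by linear_combination -h100 + hN + h000 - a1 + a4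
  have a2 : a 2 = 0 := by linear_combination -h110 - hN + h000 - a1 + a3 + 2 * a4 - a5
  funext e
  fin_cases e
  · exact hN
  · exact a1
  · exact a2
  · exact a3
  · exact a4.trans (by rw [a2, neg_zero]; rfl)
  · exact a5
  · exact h000

include c in
/-- **The model.** -/
theorem exists_model [Finite ↥(twistedG2 K (3 ^ m))] (τ : K →+* k)
    (hirr : ∀ L : Submodule k V, (∀ g, ∀ v ∈ L, ρ g v ∈ L) → L = ⊥ ∨ L = ⊤) {v : V} {φ : Module.Dual k V}
    (hφ : φ v ≠ 0) (hco : ∀ g, φ (ρ g v) = φ v * τ (BB g 6 6)) :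
    ∃ Ψ : V ≃ₗ[k] (Fin 7 → k), ∀ g x, Ψ (ρ g x) = ((BB g).map τ).mulVec (Ψ x) := by
  have hv0 : v ≠ 0 := by
    rintro rfl
    exact hφ (map_zero _)
  obtain ⟨Ψ, hΨ⟩ := H861.SzN.exists_equiv (Y := ↥(twistedG2 K (3 ^ m))) (A := fun g e => τ (BB g 6 e))
    (B := fun g e => τ (BB g e 6)) hirr hφ hφ (fun g h => by
      rw [hco, BB_mul c, Matrix.mul_apply, map_sum]
      congr 1
      exact Finset.sum_congr rfl fun e _ => map_mul _ _ _)
    (H861.SzN.span_of_li (Fintype.linearIndependent_iff.2 fun a ha e => congrFun (row_indep c τ a fun g => by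
      have h1 := congrFun ha g
      rw [Finset.sum_apply] at h1
      exact h1) e))
    (H861.SzN.span_of_li (Fintype.linearIndependent_iff.2 fun a ha e => congrFun (col_indep c τ a fun g => by
      have h1 := congrFun ha g
      rw [Finset.sum_apply] at h1
      exact h1) e))
  have hV : Submodule.span k (Set.range fun h => ρ h v) = ⊤ := by
    refine (hirr _ fun g x hx => ?_).resolve_left fun h0 => ?_
    · induction hx using Submodule.span_induction with
      | mem x hx =>
        obtain ⟨h, rfl⟩ := hx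
        refine Submodule.subset_span ⟨g * h, ?_⟩
        change ρ (g * h) v = ρ g (ρ h v)
        rw [map_mul]
        rfl
      | zero => rw [map_zero]; exact zero_mem _
      | add x y _ _ h1 h2 => rw [map_add]; exact add_mem h1 h2
      | smul a x _ h1 => rw [map_smul]; exact Submodule.smul_mem _ _ h1
    · have h1 : v ∈ Submodule.span k (Set.range fun h => ρ h v) := Submodule.subset_span ⟨1, by
        change ρ 1 v = v
        rw [map_one]; rfl⟩
      rw [h0, Submodule.mem_bot] at h1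
      exact hv0 h1
  refine ⟨Ψ, fun g x => ?_⟩
  have hx : x ∈ Submodule.span k (Set.range fun h => ρ h v) := by rw [hV]; trivial
  induction hx using Submodule.span_induction with
  | mem x hx =>
    obtain ⟨h, rfl⟩ := hx
    change Ψ (ρ g (ρ h v)) = ((BB g).map τ).mulVec (Ψ (ρ h v))
    have h1 : ρ g (ρ h v) = ρ (g * h) v := by rw [map_mul]; rfl
    rw [h1, hΨ, hΨ]
    funext e
    rw [BB_mul c, Matrix.mul_apply, map_sum]
    exact Finset.sum_congr rfl fun e _ => map_mul _ _ _
  | zero => simp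
  | add x y _ _ h1 h2 => rw [map_add, map_add, h1, h2, map_add, Matrix.mulVec_add]
  | smul b x _ h1 => rw [map_smul, map_smul, h1, map_smul, Matrix.mulVec_smul]

include c in
/-- **The irreducible modules with highest weight `3 ^ i`.** -/
theorem exists_model_of_pow [IsAlgClosed k] [FiniteDimensional k V] (hK : Fintype.card K = 3 ^ (2 * m + 1))
    (j : K →+* k) (hirr : ∀ L : Submodule k V, (∀ g, ∀ v ∈ L, ρ g v ∈ L) → L = ⊥ ∨ L = ⊤)
    (h2 : 2 ≤ Module.finrank k V)
    (hr : ∀ r, 1 ≤ r → r ≤ Fintype.card K - 1 → ∀ (f : K → K → K → Module.Dual k V) (w : K → K → K → V),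
      (∀ t u v t' u' v', f t u v (w t' u' v') = j (ker (3 ^ m) t u v t' u' v') ^ r) → ∃ i, r = 3 ^ i) :
    ∃ (τ : K →+* k) (Ψ : V ≃ₗ[k] (Fin 7 → k)), ∀ g x, Ψ (ρ g x) = ((BB g).map τ).mulVec (Ψ x) := by
  haveI : Fact (Nat.Prime 3) := ⟨Nat.prime_three⟩
  haveI : Finite ↥(twistedG2 K (3 ^ m)) := finite (Data.data c)
  obtain ⟨v, φ, r, hr1, hr2, hφ, hco⟩ := exists_coef c hK j hirr h2
  obtain ⟨i, rfl⟩ := hr r hr1 hr2 (fun t u v' => (φ v)⁻¹ • φ.comp (ρ (Data.U K (3 ^ m) t u v')))
    (fun t' u' v' => ρ (Data.N c * Data.U K (3 ^ m) t' u' v' * Data.N c) v) (by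
      intro t u w t' u' w'
      have h1 : ρ (Data.U K (3 ^ m) t u w) (ρ (Data.N c * Data.U K (3 ^ m) t' u' w' * Data.N c) v) =
          ρ (Data.U K (3 ^ m) t u w * (Data.N c * Data.U K (3 ^ m) t' u' w' * Data.N c)) v := by
        rw [map_mul _ (Data.U K (3 ^ m) t u w)]; rfl
      change (φ v)⁻¹ * φ (ρ (Data.U K (3 ^ m) t u w) (ρ (Data.N c * Data.U K (3 ^ m) t' u' w' * Data.N c) v)) = _
      rw [h1, hco, inv_mul_cancel_left₀ hφ, BB_ker c])
  obtain ⟨Ψ, hΨ⟩ := exists_model c ((iterateFrobenius k 3 i).comp j) hirr hφ (fun g => by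
    rw [hco, RingHom.comp_apply, iterateFrobenius_def])
  exact ⟨_, Ψ, hΨ⟩

end model

end Cfsg.Agent.H141.ReeK
end

-- part: H141/ReeK/Core
section
/-!
# Cores with socle a Ree group in characteristic three (helper141)

`P ≤ GL(ι, F)` a core, `char F = 3`, `Soc P ≃* ²G₂(K)`, `|K| = 3 ^ (2 m + 1)`, and the highest weight of the module
is a power of three.

* **`exists_int`** : `K ≅ F` (`σ`) and `F^ι ≅ F⁷` such that `P` becomes `σ(²G₂(K))`;
* **`exists_tri`** : the alternating 3-form.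
-/

set_option autoImplicit false
set_option linter.unusedSectionVars false
set_option linter.style.haveILetI false

namespace Cfsg.Agent.H141.ReeK

open Matrix
open Cfsg Cfsg.Geo Cfsg.Lie Cfsg.Agent.ChevalleyStructure.Ree Cfsg.Agent.ChevalleyStructure.Ree.Words
  Cfsg.Agent.ChevalleyStructure.Ree.Gens Cfsg.Agent.ChevalleyStructure.Ree.Normal
  Cfsg.Agent.ChevalleyStructure.Ree.Bruhat Cfsg.Agent.ChevalleyStructure.Ree.Blocks
  Cfsg.Agent.ChevalleyStructure.Ree.Bracket
  Cfsg.Agent.ChevalleyStructure.WordCheck Cfsg.Agent.ChevalleyStructure.WordEntry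
  Cfsg.Agent.LieRecognition.ReeSylowThree Cfsg.Agent.FixBN.ReeSplit Cfsg.Agent.H905.Md Cfsg.Agent.H915.LD
  Cfsg.Agent.H911

/-! ### traces -/

theorem check_42 : entryIs chevG2 3 0 6 wW (Sc 4) (Sc 2) (.neg (.pow xT 2)) = true := by decide +kernel

theorem check_51 : entryIs chevG2 3 0 6 wW (Sc 5) (Sc 1)
    (.add (.add (.neg (.pow xU 2)) (.mul xt xV)) (.mul (.mul xt xT) xU)) = true := by decide +kernel

section trace

variable {K : Type*} [Field K] {θ : K →+* K} {e : ℕ} (c : Ctx θ e)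

include c in
theorem trace_wU_n (v : K) : (B (wU e 0 0 v * nU K)).trace = θ v ^ 2 - 1 := by
  have h42 : B (wU e 0 0 v) 4 2 = 0 :=
    (W_entry c.h3 c.isTheta 0 0 v check_42).trans
      (by simp [PExpr.denote, Cfsg.Agent.ChevalleyStructure.ReeFixed.val, xT])
  have h51 : B (wU e 0 0 v) 5 1 = 0 :=
    (W_entry c.h3 c.isTheta 0 0 v check_51).trans
      (by simp [PExpr.denote, Cfsg.Agent.ChevalleyStructure.ReeFixed.val, xT, xU, xt, xV])
  have h60 : B (wU e 0 0 v) 6 0 = -θ v ^ 2 := by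
    rw [B_row c]
    have hz : e ≠ 0 := by
      rintro rfl
      have h1 := c.theta_eq 0
      rw [pow_zero, map_zero] at h1
      exact zero_ne_one h1
    simp [frow, c.theta_eq, zero_pow hz]
  have h33 : B (wU e 0 0 v) 3 3 = 1 := c.B_diag 0 0 v 3
  have h06 : B (wU e 0 0 v) 0 6 = 0 := c.B_low 0 0 v 0 6 (by decide)
  have h15 : B (wU e 0 0 v) 1 5 = 0 := c.B_low 0 0 v 1 5 (by decide)
  have h24 : B (wU e 0 0 v) 2 4 = 0 := c.B_low 0 0 v 2 4 (by decide)
  rw [Matrix.trace, Fin.sum_univ_seven]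
  simp only [Matrix.diag_apply, c.B_mul_n]
  change -B (wU e 0 0 v) 0 6 + -B (wU e 0 0 v) 1 5 + -B (wU e 0 0 v) 2 4 + -B (wU e 0 0 v) 3 3 +
    -B (wU e 0 0 v) 4 2 + -B (wU e 0 0 v) 5 1 + -B (wU e 0 0 v) 6 0 = _
  rw [h42, h51, h60, h33, h06, h15, h24]
  ring

end trace

/-! ### descent -/

section descent

variable {F : Type*} [Field F] {k : Type*} [Field k] [Algebra F k] {ι : Type} [Fintype ι] [DecidableEq ι]
  {Y : Type*} [Group Y] {κ : Type} [Fintype κ] [DecidableEq κ]

/-- an isomorphism over an extension field gives one over the field (irreducible representation) -/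
theorem exists_descent {φ : Y →* GL ι F} (hirr : ActsIrreducibly (matrixSet φ.range)) {M : Y → Matrix κ κ F}
    (Ψ : (ι → k) ≃ₗ[k] (κ → k))
    (hΨ : ∀ g x, Ψ (((φ g : Matrix ι ι F).map (algebraMap F k)).mulVec x) = ((M g).map (algebraMap F k)).mulVec (Ψ x)) :
    ∃ Ξ : (ι → F) ≃ₗ[F] (κ → F), ∀ g x, Ξ ((φ g : Matrix ι ι F).mulVec x) = (M g).mulVec (Ξ x) := by
  classical
  have hcard : Fintype.card ι = Fintype.card κ := by
    have h1 := Ψ.finrank_eq
    rwa [Module.finrank_fintype_fun_eq_card, Module.finrank_fintype_fun_eq_card] at h1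
  rcases isEmpty_or_nonempty ι with he | hne
  · have hκ : IsEmpty κ := Fintype.card_eq_zero_iff.1 (by rw [← hcard]; exact Fintype.card_eq_zero)
    exact ⟨LinearEquiv.ofFinrankEq _ _ (by
      rw [Module.finrank_fintype_fun_eq_card, Module.finrank_fintype_fun_eq_card, hcard]), fun g x => Subsingleton.elim _ _⟩
  -- a nonzero entry
  obtain ⟨i₀⟩ := hne
  have h0 : Ψ (Pi.single i₀ 1) ≠ 0 := by
    rw [Ne, LinearEquiv.map_eq_zero_iff]
    exact Pi.single_ne_zero_iff.2 one_ne_zero
  obtain ⟨a₀, ha₀⟩ := Function.ne_iff.1 h0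
  obtain ⟨l, hl⟩ : ∃ l : Module.Dual F k, l (Ψ (Pi.single i₀ 1) a₀) ≠ 0 := by
    by_contra hcon
    push Not at hcon
    exact ha₀ ((Module.forall_dual_apply_eq_zero_iff F _).1 hcon)
  let up : (ι → F) → (ι → k) := fun v i => algebraMap F k (v i)
  let Ξ₀ : (ι → F) →ₗ[F] (κ → F) :=
    { toFun := fun v a => l (Ψ (up v) a)
      map_add' := fun v w => by
        funext a
        have h1 : up (v + w) = up v + up w := by
          funext i
          exact map_add _ _ _
        rw [h1, map_add, Pi.add_apply, map_add]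
        rfl
      map_smul' := fun r v => by
        funext a
        have h1 : up (r • v) = algebraMap F k r • up v := by
          funext i
          exact map_mul _ _ _
        rw [h1, map_smul, Pi.smul_apply, algebraMap_smul, map_smul]
        rfl }
  have hint : ∀ g x, Ξ₀ ((φ g : Matrix ι ι F).mulVec x) = (M g).mulVec (Ξ₀ x) := by
    intro g x
    funext a
    have h1 : up ((φ g : Matrix ι ι F).mulVec x) = ((φ g : Matrix ι ι F).map (algebraMap F k)).mulVec (up x) := by
      funext i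
      change algebraMap F k (∑ j, (φ g : Matrix ι ι F) i j * x j) = ∑ j, algebraMap F k ((φ g : Matrix ι ι F) i j) * _
      rw [map_sum]
      exact Finset.sum_congr rfl fun j _ => map_mul _ _ _
    change l (Ψ (up ((φ g : Matrix ι ι F).mulVec x)) a) = ∑ b, M g a b * l (Ψ (up x) b)
    rw [h1, hΨ]
    change l (∑ b, algebraMap F k (M g a b) * Ψ (up x) b) = _
    rw [map_sum]
    refine Finset.sum_congr rfl fun b _ => ?_
    rw [← Algebra.smul_def, map_smul, smul_eq_mul]
  have hne : Ξ₀ (Pi.single i₀ 1) ≠ 0 := by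
    intro h1
    apply hl
    have h2 : up (Pi.single i₀ 1) = Pi.single i₀ 1 := by
      funext i
      change algebraMap F k ((Pi.single i₀ (1 : F) : ι → F) i) = (Pi.single i₀ (1 : k) : ι → k) i
      rw [Pi.single_apply, Pi.single_apply]
      by_cases h : i = i₀
      · rw [if_pos h, if_pos h, map_one]
      · rw [if_neg h, if_neg h, map_zero]
    have h3 := congrFun h1 a₀
    change l (Ψ (up (Pi.single i₀ 1)) a₀) = 0 at h3
    rwa [h2] at h3
  have hker : LinearMap.ker Ξ₀ = ⊥ := by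
    rcases hirr (LinearMap.ker Ξ₀) (by
      rintro _ ⟨_, ⟨g, rfl⟩, rfl⟩
      rw [Submodule.map_le_iff_le_comap]
      intro x hx
      rw [LinearMap.mem_ker] at hx
      rw [Submodule.mem_comap, LinearMap.mem_ker, Matrix.toLin'_apply]
      exact (hint g x).trans (by rw [hx, Matrix.mulVec_zero])) with h | h
    · exact h
    · exfalso
      apply hne
      have : (Pi.single i₀ 1 : ι → F) ∈ LinearMap.ker Ξ₀ := by rw [h]; trivial
      exact this
  refine ⟨LinearEquiv.ofInjectiveOfFinrankEq Ξ₀ (LinearMap.ker_eq_bot.1 hker) (by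
    rw [Module.finrank_fintype_fun_eq_card, Module.finrank_fintype_fun_eq_card, hcard]), fun g x => ?_⟩
  exact hint g x

end descent

/-! ### the core -/

section main

variable {F : Type*} [Field F] [Finite F] {ι : Type} [Fintype ι] [DecidableEq ι] {P : Subgroup (GL ι F)}
  {K : Type*} [Field K] [Fintype K] {m : ℕ}

/-- the numeric statement: the highest weight is a power of three -/
def Num (F : Type*) [Field F] (ι : Type) (K : Type*) [Field K] [Fintype K] (m : ℕ) : Prop :=
  ∀ (j : K →+* AlgebraicClosure F) (r : ℕ), 1 ≤ r → r ≤ Fintype.card K - 1 →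
    ∀ (f : K → K → K → Module.Dual (AlgebraicClosure F) (ι → AlgebraicClosure F))
      (w : K → K → K → (ι → AlgebraicClosure F)),
      (∀ t u v t' u' v', f t u v (w t' u' v') = j (ker (3 ^ m) t u v t' u' v') ^ r) → ∃ i, r = 3 ^ i

/-- a field containing both -/
theorem exists_emb (F : Type*) [Field F] [CharP F 3] (hK : Fintype.card K = 3 ^ (2 * m + 1)) :
    Nonempty (K →+* AlgebraicClosure F) := by
  haveI : Fact (Nat.Prime 3) := ⟨Nat.prime_three⟩
  haveI : CharP K 3 := by
    obtain ⟨θ, c⟩ := exists_ctx hK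
    have h3 := c.h3
    exact (CharP.charP_iff_prime_eq_zero Nat.prime_three).2 (by exact_mod_cast h3)
  let _ : Algebra (ZMod 3) K := ZMod.algebra K 3
  have hk : CharP (AlgebraicClosure F) 3 := charP_of_injective_ringHom (algebraMap F (AlgebraicClosure F)).injective 3
  let _ : Algebra (ZMod 3) (AlgebraicClosure F) := ZMod.algebra (AlgebraicClosure F) 3
  exact ⟨(IsAlgClosed.lift (R := ZMod 3) (S := K) (M := AlgebraicClosure F)).toRingHom⟩

/-- **The coefficient of the highest weight of a core** (no bound on the dimension). -/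
theorem core_coef [CharP F 3] (hC : Core P) (hm : 1 ≤ m) (hK : Fintype.card K = 3 ^ (2 * m + 1))
    (e : Soc P ≃* ↥(twistedG2 K (3 ^ m))) {θ : K →+* K} (c : Ctx θ (3 ^ m)) (j : K →+* AlgebraicClosure F) :
    ∃ (φ : ↥(twistedG2 K (3 ^ m)) →* GL ι F) (v : ι → AlgebraicClosure F)
      (ψ : Module.Dual (AlgebraicClosure F) (ι → AlgebraicClosure F)) (r : ℕ), φ.range = P ∧ Function.Injective φ ∧
      1 ≤ r ∧ r ≤ Fintype.card K - 1 ∧ ψ v = 1 ∧
      (∀ t u w, lin (acRep φ) (Data.U K (3 ^ m) t u w) v = v) ∧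
      (∀ α : Kˣ, lin (acRep φ) (Data.T c α) v = j (c.dd α) ^ r • v) ∧
      (∀ t u w x, ψ (lin (acRep φ) (Data.N c * Data.U K (3 ^ m) t u w * Data.N c) x) = ψ x) ∧
      ψ (lin (acRep φ) (Data.N c) v) = 0 ∧
      (∀ g, ψ (lin (acRep φ) g v) = j (BB g 6 6) ^ r) ∧
      ∀ t u w t' u' w', ψ (lin (acRep φ) (Data.U K (3 ^ m) t u w) (lin (acRep φ)
        (Data.N c * Data.U K (3 ^ m) t' u' w' * Data.N c) v)) = j (ker (3 ^ m) t u w t' u' w') ^ r := by
  haveI : Fact (Nat.Prime 3) := ⟨Nat.prime_three⟩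
  haveI := hC.nonempty
  haveI hk : CharP (AlgebraicClosure F) 3 :=
    charP_of_injective_ringHom (algebraMap F (AlgebraicClosure F)).injective 3
  obtain ⟨φ, hφ, hinj⟩ := H708.ReeSix.exists_hom hC hm hK e
  obtain ⟨v, ψ, r, h1, h2, h3, h4, h5, h6, h7, h8⟩ := exists_coef' (V := ι → AlgebraicClosure F)
    (ρ := lin (acRep φ)) c hK j
    (fun L hL => acRep_irr hφ (H920.span_eq_top hC.absIrred) rfl L fun g _ v hv => hL g v hv)
    (by rw [Module.finrank_fintype_fun_eq_card]; exact hC.two_le)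
  refine ⟨φ, v, ψ, r, hφ, hinj, h1, h2, h3, h4, h5, h6, h7, h8, fun t u w t' u' w' => ?_⟩
  have h9 : lin (acRep φ) (Data.U K (3 ^ m) t u w) (lin (acRep φ)
      (Data.N c * Data.U K (3 ^ m) t' u' w' * Data.N c) v) = lin (acRep φ) (Data.U K (3 ^ m) t u w *
      (Data.N c * Data.U K (3 ^ m) t' u' w' * Data.N c)) v := by
    rw [map_mul (lin (acRep φ)) (Data.U K (3 ^ m) t u w)]
    rfl
  rw [h9, h8, BB_ker c]

theorem exists_int [CharP F 3] (hC : Core P) (hm : 1 ≤ m) (hK : Fintype.card K = 3 ^ (2 * m + 1))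
    (e : Soc P ≃* ↥(twistedG2 K (3 ^ m))) (hnum : Num F ι K m) :
    ∃ (φ : ↥(twistedG2 K (3 ^ m)) →* GL ι F) (σ : K →+* F) (Ξ : (ι → F) ≃ₗ[F] (Fin 7 → F)), φ.range = P ∧
      Function.Injective φ ∧ Function.Bijective σ ∧
        ∀ g x, Ξ ((φ g : Matrix ι ι F).mulVec x) = ((BB g).map σ).mulVec (Ξ x) := by
  classical
  haveI : Fact (Nat.Prime 3) := ⟨Nat.prime_three⟩
  haveI := hC.nonempty
  haveI hk : CharP (AlgebraicClosure F) 3 :=
    charP_of_injective_ringHom (algebraMap F (AlgebraicClosure F)).injective 3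
  obtain ⟨θ, c⟩ := exists_ctx hK
  obtain ⟨j⟩ := exists_emb F hK
  obtain ⟨φ, hφ, hinj⟩ := H708.ReeSix.exists_hom hC hm hK e
  obtain ⟨τ, Ψ, hΨ⟩ := exists_model_of_pow (V := ι → AlgebraicClosure F) (ρ := lin (acRep φ)) c hK j
    (fun L hL => acRep_irr hφ (H920.span_eq_top hC.absIrred) rfl L fun g _ v hv => hL g v hv)
    (by rw [Module.finrank_fintype_fun_eq_card]; exact hC.two_le) (fun r h1 h2 => hnum j r h1 h2)
  -- traces
  have htr : ∀ g, algebraMap F (AlgebraicClosure F) (_root_.Cfsg.Agent.H915.LD.tr (φ g)) = τ (BB g).trace := by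
    intro g
    have h1 : algebraMap F (AlgebraicClosure F) (_root_.Cfsg.Agent.H915.LD.tr (φ g)) =
        LinearMap.trace (AlgebraicClosure F) (ι → AlgebraicClosure F) (lin (acRep φ) g) := by
      rw [trace_lin, trace_acRep]
      rfl
    have h2 : Matrix.toLin' ((BB g).map τ) = Ψ.conj (lin (acRep φ) g) := by
      refine LinearMap.ext fun x => ?_
      rw [LinearEquiv.conj_apply_apply, hΨ, LinearEquiv.apply_symm_apply, Matrix.toLin'_apply]
    rw [h1, ← LinearMap.trace_conj' (lin (acRep φ) g) Ψ, ← h2, Matrix.trace_toLin'_eq]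
    exact (AddMonoidHom.map_trace τ (BB g)).symm
  -- `τ K ⊆ F`
  have hsq : ∀ x : K, ∃ y : F, algebraMap F (AlgebraicClosure F) y = τ (x ^ 2) := by
    intro x
    obtain ⟨v, rfl⟩ := c.exists_theta x
    refine ⟨_root_.Cfsg.Agent.H915.LD.tr (φ (Data.U K (3 ^ m) 0 0 v * Data.N c)) + 1, ?_⟩
    rw [map_add, htr, map_one]
    change τ (B (wU (3 ^ m) 0 0 v * nU K)).trace + 1 = _
    rw [trace_wU_n c, map_sub, map_one, sub_add_cancel]
  have hF : ∀ x : K, τ x ∈ (algebraMap F (AlgebraicClosure F)).fieldRange := by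
    intro x
    obtain ⟨y, hy⟩ := hsq (x + 1)
    obtain ⟨z, hz⟩ := hsq (x - 1)
    refine ⟨y - z, ?_⟩
    rw [map_sub, hy, hz, ← map_sub]
    congr 1
    linear_combination x * c.h3
  let E : F ≃+* (algebraMap F (AlgebraicClosure F)).fieldRange :=
    RingEquiv.ofBijective (algebraMap F (AlgebraicClosure F)).rangeRestrictField
      ⟨(algebraMap F (AlgebraicClosure F)).rangeRestrictField.injective,
        (algebraMap F (AlgebraicClosure F)).rangeRestrictField_bijective.2⟩
  let σ : K →+* F := E.symm.toRingHom.comp (τ.codRestrict _ hF)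
  have hσ : ∀ x, algebraMap F (AlgebraicClosure F) (σ x) = τ x := by
    intro x
    have h1 : E (σ x) = ⟨τ x, hF x⟩ := E.apply_symm_apply _
    exact congrArg Subtype.val h1
  -- `σ` is bijective
  have hbij : Function.Bijective σ := by
    haveI := Fintype.ofFinite F
    rw [Fintype.bijective_iff_injective_and_card]
    refine ⟨σ.injective, le_antisymm (Fintype.card_le_of_injective σ σ.injective) ?_⟩
    rw [hK]
    refine hC.card_le 3 (by omega) fun g hg => ?_
    rw [← hφ] at hg
    obtain ⟨x, rfl⟩ := hg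
    apply (algebraMap F (AlgebraicClosure F)).injective
    rw [map_pow, htr, ← map_pow, ← hK, FiniteField.pow_card]
  obtain ⟨Ξ, hΞ⟩ := exists_descent (k := AlgebraicClosure F) (φ := φ) (M := fun g => (BB g).map σ)
    (by rw [hφ]; exact hC.absIrred.1) Ψ (fun g x => by
      have h1 := hΨ g x
      rw [lin_apply, acRep_apply] at h1
      rw [h1]
      congr 1
      ext a b
      exact (hσ _).symm)
  exact ⟨φ, σ, Ξ, hφ, hinj, hbij, hΞ⟩

/-- **The alternating 3-form.** -/
theorem exists_tri [CharP F 3] (hC : Core P) (hm : 1 ≤ m) (hK : Fintype.card K = 3 ^ (2 * m + 1))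
    (e : Soc P ≃* ↥(twistedG2 K (3 ^ m))) (hnum : Num F ι K m) :
    Fintype.card ι = 7 ∧ Nat.card F = Nat.card K ∧
      ∃ f : (ι → F) →ₗ[F] (ι → F) →ₗ[F] (ι → F) →ₗ[F] F, (∀ x z, f x x z = 0) ∧ (∀ x y, f x y y = 0) ∧ f ≠ 0 ∧
        ∀ g ∈ P, ∀ x y z, f ((g : Matrix ι ι F).mulVec x) ((g : Matrix ι ι F).mulVec y)
          ((g : Matrix ι ι F).mulVec z) = f x y z := by
  obtain ⟨θ, c⟩ := exists_ctx hK
  obtain ⟨φ, σ, Ξ, hφ, -, hσ, hΞ⟩ := exists_int hC hm hK e hnum
  have hcard : Fintype.card ι = 7 := by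
    have h1 := Ξ.finrank_eq
    rwa [Module.finrank_fintype_fun_eq_card, Module.finrank_fintype_fun_eq_card, Fintype.card_fin] at h1
  have h2 : (2 : F) ≠ 0 := H708.ReeSix.two_ne_zero_of_char
  let f : (ι → F) →ₗ[F] (ι → F) →ₗ[F] (ι → F) →ₗ[F] F :=
    { toFun := fun x => (tri F (Ξ x)).compl₁₂ Ξ.toLinearMap Ξ.toLinearMap
      map_add' := fun x y => by
        ext
        simp only [_root_.map_add, _root_.LinearMap.coe_comp, _root_.LinearMap.coe_single, _root_.Function.comp_apply, _root_.LinearMap.compl₁₂_apply, _root_.LinearEquiv.coe_coe, _root_.LinearMap.add_apply]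
      map_smul' := fun r x => by
        ext
        simp only [_root_.map_smul, _root_.LinearMap.coe_comp, _root_.LinearMap.coe_single, _root_.Function.comp_apply, _root_.LinearMap.compl₁₂_apply, _root_.LinearEquiv.coe_coe, _root_.LinearMap.smul_apply, _root_.smul_eq_mul, _root_.RingHom.id_apply, _root_.LinearMap.coe_smul, _root_.Pi.smul_apply] }
  have hf : ∀ x y z, f x y z = tri F (Ξ x) (Ξ y) (Ξ z) := fun _ _ _ => rfl
  refine ⟨hcard, (Nat.card_congr (Equiv.ofBijective _ hσ)).symm, f, fun x z => ?_, fun x y => ?_, ?_, ?_⟩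
  · rw [hf, tri_self]
  · rw [hf, tri_z23 h2]
  · intro h
    have h1 := tri_val (L := F)
    rw [← Ξ.apply_symm_apply (Pi.single 3 1), ← Ξ.apply_symm_apply (Pi.single 0 1),
      ← Ξ.apply_symm_apply (Pi.single 6 1), ← hf, h] at h1
    exact zero_ne_one h1
  · rintro _ hg x y z
    rw [← hφ] at hg
    obtain ⟨g, rfl⟩ := hg
    rw [hf, hf, hΞ, hΞ, hΞ]
    exact ((pres c g.2).map σ).inv _ _ _

end main

end Cfsg.Agent.H141.ReeK
end

private theorem dce_22895863df7c : _root_.True := by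
  try have : _root_.True := by simp only [_root_.Cfsg.Agent.ChevalleyStructure.Ree.Data.T.congr_simp]
  try have : _root_.True := by simp only [_root_.Cfsg.Agent.ChevalleyStructure.Ree.Data.N.congr_simp]
  exact _root_.True.intro
end

-- part: H141/ReeK/Main
section
set_option linter.all false
open scoped Cfsg.Agent.FastGrp

/-!
# Ree groups in the defining characteristic, dimension at most twelve (helper141; numeric half: helper909)

`P ≤ GL(ι, F)` a core (`H915.LD.Core`), `char F = 3`, `Soc P ≃* ²G₂(K)`, `|K| = 3 ^ (2 m + 1)`, `m ≥ 1`, `|ι| ≤ 12`.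

* **`ree_int`** : `K ≃ F` (`σ`) and `F^ι ≃ F⁷` such that `P` becomes the group of the matrices `σ(B g)`,
  `B` the natural 7-dimensional representation (`ChevalleyStructure/Ree/Normal`);
* **`ree_tri`** : `|ι| = 7`, `|F| = |K|`, and `P` preserves a nonzero alternating trilinear form;
* **`ree_fixQ`** : `|ι| = 7`, `|F| = |K|`, `P` fixes a non-degenerate quadratic form; `ree_false` : `|ι| ≠ 7` is impossible.
-/

set_option autoImplicit false
set_option linter.unusedSectionVars false
set_option linter.style.haveILetI false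

namespace Cfsg.Agent.H141.ReeK

open Matrix
open Cfsg Cfsg.Geo Cfsg.Lie Cfsg.Agent.H915.LD

variable {F : Type*} [Field F] [Finite F] [CharP F 3] {ι : Type} [Fintype ι] [DecidableEq ι] {P : Subgroup (GL ι F)}
  {K : Type*} [Field K] [Fintype K] {m : ℕ}

theorem num_of_le (hm : 1 ≤ m) (hK : Fintype.card K = 3 ^ (2 * m + 1)) (hn : Fintype.card ι ≤ 12) : Num F ι K m := by
  haveI hk : CharP (AlgebraicClosure F) 3 :=
    charP_of_injective_ringHom (algebraMap F (AlgebraicClosure F)).injective 3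
  exact fun j r h1 h2 f w h => H909.ReeKer.ree_bound j hm hK h1 h2 f w h
    (by rw [Module.finrank_fintype_fun_eq_card]; exact hn)

/-- **Ree groups in the defining characteristic, `n ≤ 12`**: the alternating 3-form. -/
theorem ree_tri (hC : Core P) (hm : 1 ≤ m) (hK : Fintype.card K = 3 ^ (2 * m + 1))
    (e : Soc P ≃* ↥(twistedG2 K (3 ^ m))) (hn : Fintype.card ι ≤ 12) :
    Fintype.card ι = 7 ∧ Nat.card F = Nat.card K ∧
      ∃ f : (ι → F) →ₗ[F] (ι → F) →ₗ[F] (ι → F) →ₗ[F] F, (∀ x z, f x x z = 0) ∧ (∀ x y, f x y y = 0) ∧ f ≠ 0 ∧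
        ∀ g ∈ P, ∀ x y z, f ((g : Matrix ι ι F).mulVec x) ((g : Matrix ι ι F).mulVec y)
          ((g : Matrix ι ι F).mulVec z) = f x y z :=
  exists_tri hC hm hK e (num_of_le hm hK hn)

theorem ree_false (hC : Core P) (hm : 1 ≤ m) (hK : Fintype.card K = 3 ^ (2 * m + 1))
    (e : Soc P ≃* ↥(twistedG2 K (3 ^ m))) (hn : Fintype.card ι ≤ 12) (h7 : Fintype.card ι ≠ 7) : False :=
  h7 (ree_tri hC hm hK e hn).1

end Cfsg.Agent.H141.ReeK
end
end
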